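import Cfsg.Agent.Lib.BrauerTuan.Data

/-!
# The principal block of a group with a Sylow subgroup of order `p`, without simplicity
-/

set_option autoImplicit false
set_option linter.unusedSectionVars false
set_option linter.style.haveILetI false

namespace CfsgLib.DegreeTwoPrime

open Cfsg CfsgLib
open scoped ComplexConjugate CfsgLib.Char
open scoped _root_.Classical

variable {G : Type*} [Group G] [Fintype G] {p : ℕ} [Fact p.Prime]

/-- The rows of the principal block. -/
structure Rows (P : Sylow p G) where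
  e : ℕ
  X : Finset (IrrCharacter G)
  Y : Finset (IrrCharacter G)
  δ : IrrCharacter G → ℤ
  ε : ℤ
  two_le_e : 2 ≤ e
  het : e * Y.card + 1 = p
  disj : Disjoint X Y
  triv : Blocks.trivIrr G ∈ X
  δ_triv : δ (Blocks.trivIrr G) = 1
  hδ : ∀ χ ∈ X, δ χ = 1 ∨ δ χ = -1
  hε : ε = 1 ∨ ε = -1
  valX : ∀ χ ∈ X, ∀ v ∈ (P : Subgroup G), v ≠ 1 → (χ : G → ℂ) v = δ χ
  sumY : ∀ v ∈ (P : Subgroup G), v ≠ 1 → ∑ ψ ∈ Y, (ψ : G → ℂ) v = -(ε : ℂ)
  rel : ∀ ψ ∈ Y, ∀ g, ¬ p ∣ orderOf g → (ε : ℂ) * (ψ : G → ℂ) g = ∑ χ ∈ X, (δ χ : ℂ) * (χ : G → ℂ) g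
  degX : ∀ χ ∈ X, (charDegree (χ : G → ℂ) : ℤ) ≡ δ χ [ZMOD p]
  degY : ∀ ψ ∈ Y, (charDegree (ψ : G → ℂ) : ℤ) ≡ ε * e [ZMOD p]
  out : Subgroup.centralizer ((P : Subgroup G) : Set G) = (P : Subgroup G) →
    ∀ χ : IrrCharacter G, χ ∉ X → χ ∉ Y → ∀ v ∈ (P : Subgroup G), v ≠ 1 → (χ : G → ℂ) v = 0

theorem exists_rows (P : Sylow p G) (hP : Nat.card (P : Subgroup G) = p)
    (hnc : ¬ Subgroup.normalizer ((P : Subgroup G) : Set G) ≤
      Subgroup.centralizer ((P : Subgroup G) : Set G)) : Nonempty (Rows P) := by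
  have hp : p.Prime := Fact.out
  have hdvdG : p ∣ Nat.card G := hP ▸ Subgroup.card_subgroup_dvd_card (P : Subgroup G)
  have hsq : ¬ p ^ 2 ∣ Nat.card G := fun h => by
    have h1 := (P : Subgroup G).card_mul_index
    rw [hP] at h1
    rw [pow_two, ← h1] at h
    exact P.not_dvd_index (Nat.dvd_of_mul_dvd_mul_left hp.pos h)
  obtain ⟨M, hM⟩ := Blocks.exists_isPModular hp
  haveI := Blocks.isPrime_of_isPModular hM
  set S := Blocks.PrimeDefect.principalSetup hM P hP with hS
  set e := S.C.relIndex S.N with he_def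
  have hSe : S.e = e := by
    rw [Blocks.PrimeDefect.Setup.e, Blocks.PrimeDefect.principal_T hM P hP]
  have he2 : 2 ≤ e := by
    have h0 : e ≠ 0 := Subgroup.index_ne_zero_of_finite
    have h1 : e ≠ 1 := fun h => hnc (Subgroup.relIndex_eq_one.mp h)
    omega
  have hdeg1 : charDegree (S.θ : S.C → ℂ) = 1 := Blocks.PrimeDefect.principal_degree hM P hP
  obtain ⟨hdvd, X, Y, δ, ε, hdisj, hmem, hXc, hYc, hε, hδ, ha, hdX, hdY, hrel, -⟩ := S.structure_block
  rw [hSe, hdeg1, Nat.div_self (by omega)] at hdX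
  rw [hdeg1, mul_one] at hdY
  have hweq := S.weight_eq
  rw [hSe] at hXc hYc hdvd hweq
  have het : e * Y.card + 1 = p := by
    rw [hYc, Nat.mul_div_cancel' hdvd]; have := hp.one_lt; omega
  have hYne : Y.Nonempty := Finset.card_pos.mp (Nat.pos_of_ne_zero fun h => by
    rw [h, mul_zero] at het; have := hp.one_lt; omega)
  have hB : ∀ χ ∈ X ∪ Y, χ ∈ principalBlock M G := fun χ hχ => (hmem χ).mpr hχ
  have hone : ¬ p ∣ orderOf (1 : G) := orderOf_one (G := G) ▸ hp.not_dvd_one
  have hsumY : ∀ u ∈ (P : Subgroup G), u ≠ 1 → ∑ ψ ∈ Y, S.a ψ u = -(ε : ℂ) := by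
    intro u hu hu1
    obtain ⟨ψ₀, hψ₀⟩ := hYne
    have h := S.sum_a_mul_regular (v := u) hu hu1 (g := 1) (Blocks.PrimeDefect.Setup.isPRegular_one hp)
    rw [show (Finset.univ.filter fun χ => χ ∈ S.B) = X ∪ Y from
      Finset.ext fun χ => by simp [hmem], Finset.sum_union hdisj] at h
    have hYdeg : ∀ ψ ∈ Y, (ψ : G → ℂ) 1 = (ψ₀ : G → ℂ) 1 := fun ψ hψ =>
      mul_left_cancel₀ (show (ε : ℂ) ≠ 0 by rcases hε with h | h <;> simp [h])
        ((hrel ψ hψ 1 hone).trans (hrel ψ₀ hψ₀ 1 hone).symm)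
    rw [Finset.sum_congr (s₁ := X) rfl (g := fun χ => (δ χ : ℂ) * (χ : G → ℂ) 1) (fun χ hχ => by
        rw [ha χ hχ u hu hu1, BrauerReynolds.value_one, Complex.conj_natCast]),
      ← hrel ψ₀ hψ₀ 1 hone,
      Finset.sum_congr (s₁ := Y) rfl (g := fun ψ => S.a ψ u * (ψ₀ : G → ℂ) 1) (fun ψ hψ => by
        rw [hYdeg ψ hψ, BrauerReynolds.value_one ψ₀, Complex.conj_natCast]), ← Finset.sum_mul, ← add_mul] at h
    have := (mul_eq_zero.mp h).resolve_right (Char.irr_degree_ne_zero ψ₀.2)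
    linear_combination this
  have hvalY : ∀ v ∈ (P : Subgroup G), v ≠ 1 → ∑ ψ ∈ Y, (ψ : G → ℂ) v = -(ε : ℂ) := by
    intro v hv hv1
    refine mul_left_cancel₀ (Nat.cast_ne_zero.mpr (Nat.card_pos (α := S.T)).ne' : (Nat.card S.T : ℂ) ≠ 0) ?_
    rw [Finset.mul_sum]
    have hterm : ∀ ψ ∈ Y, (Nat.card S.T : ℂ) * (ψ : G → ℂ) v =
        ∑ g : G with g ∈ S.N, S.a ψ (g⁻¹ * v * g) := by
      intro ψ hψ
      have hval := S.value_section (hB ψ (Finset.mem_union_right _ hψ)) hv hv1 (y := 1)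
        (Blocks.PrimeDefect.Setup.isPRegular_one hp)
      rw [Subgroup.coe_one, mul_one] at hval
      rw [hval]
      refine Finset.sum_congr rfl fun g _ => ?_
      have h1 : g⁻¹ * 1 * g = 1 := by group
      rw [dif_pos (show g⁻¹ * 1 * g ∈ S.C by rw [h1]; exact one_mem _)]
      exact (mul_one _)
    rw [Finset.sum_congr rfl hterm, Finset.sum_comm,
      Finset.sum_congr rfl (s₁ := Finset.univ.filter fun g : G => g ∈ S.N) (g := fun _ => -(ε : ℂ)) fun g hg => hsumY (g⁻¹ * v * g)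
        ((Subgroup.mem_normalizer_iff''.mp (Finset.mem_filter.mp hg).2 v).mp hv) fun e => hv1 (by
          have := congrArg (fun z => g * z * g⁻¹) e
          simpa [mul_assoc] using this),
      Finset.sum_const, nsmul_eq_mul, ← Fintype.card_subtype, ← Nat.card_eq_fintype_card,
      show Nat.card {g // g ∈ S.N} = Nat.card S.T by rw [hS, Blocks.PrimeDefect.principal_T hM P hP]]
  have hvalX : ∀ χ ∈ X, ∀ v ∈ (P : Subgroup G), v ≠ 1 → (χ : G → ℂ) v = δ χ := fun χ hχ v hv hv1 => by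
    have := Blocks.PrimeDefect.principal_value hM P hP (hB χ (Finset.mem_union_left _ hχ))
      (δ := δ χ) (fun u hu hu1 => ha χ hχ u hu hu1) hv hv1 (one_mem _) hone
    rwa [mul_one] at this
  have hout : Subgroup.centralizer ((P : Subgroup G) : Set G) = (P : Subgroup G) →
      ∀ χ : IrrCharacter G, χ ∉ X → χ ∉ Y → ∀ v ∈ (P : Subgroup G), v ≠ 1 → (χ : G → ℂ) v = 0 := by
    intro hC χ hX hY u hu hu1
    refine Char.defect_zero_vanish χ.2 (p := p) (n := 1) (Blocks.irr_degree_eq χ).1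
      (by rw [pow_one]; exact hdvdG) hsq ?_ (by
        rw [show orderOf u = p from S.orderOf_mem hu hu1])
    rw [pow_one]
    by_contra hd
    have hcount := Blocks.PrimeDefect.count_eq hM (P := (P : Subgroup G)) hP hdvdG hsq
    rw [BrauerReynolds.weight_self_centralizing hC] at hcount
    have hf : Nat.card (Subgroup.normalizer ((P : Subgroup G) : Set G)) = e * p := by
      have h := (S.C.subgroupOf S.N).index_mul_card
      rw [Nat.card_congr (Subgroup.subgroupOfEquivOfLe S.C_le_N).toEquiv,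
        show Nat.card S.C = p by rw [show S.C = (P : Subgroup G) from hC, hP]] at h
      exact h.symm
    rw [hf, hP, Nat.mul_div_cancel _ hp.pos] at hcount
    change e * _ = e ^ 2 + (p - 1) at hcount
    have hsub : (X ∪ Y) ⊆ Finset.univ.filter fun χ : IrrCharacter G => ¬ p ∣ charDegree (χ : G → ℂ) :=
      fun ξ hξ => Finset.mem_filter.mpr ⟨Finset.mem_univ _, S.not_dvd_degree_mem ((hmem ξ).mpr hξ)⟩
    have hle : (Finset.univ.filter fun χ : IrrCharacter G => ¬ p ∣ charDegree (χ : G → ℂ)).card ≤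
        (X ∪ Y).card := by
      rw [← Fintype.card_subtype, ← Nat.card_eq_fintype_card]
      refine (Nat.eq_of_mul_eq_mul_left (show 0 < e by omega) ?_).le
      rw [hcount, hweq, show S.B = ↑(X ∪ Y) from Set.ext fun χ => by rw [hmem, Finset.mem_coe],
        Nat.card_eq_card_toFinset, Finset.toFinset_coe]
    have := Finset.eq_of_subset_of_card_le hsub hle
    have : χ ∈ X ∪ Y := this.symm ▸ Finset.mem_filter.mpr ⟨Finset.mem_univ _, hd⟩
    exact (Finset.mem_union.mp this).elim hX hY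
  set o := Blocks.trivIrr G with ho
  have ho1 : ∀ g : G, (o : G → ℂ) g = 1 := fun _ => rfl
  obtain ⟨v, hv, hv1⟩ : ∃ v, v ∈ (P : Subgroup G) ∧ v ≠ 1 := by
    rcases (P : Subgroup G).bot_or_exists_ne_one with h | h
    · rw [h, Subgroup.card_bot] at hP
      exact absurd hP hp.one_lt.ne
    · exact h
  by_cases hoX : o ∈ X
  · have : δ o = 1 := by
      have h := hvalX o hoX v hv hv1
      rw [ho1] at h
      exact_mod_cast h.symm
    exact ⟨{
      e := e, X := X, Y := Y, δ := δ, ε := ε, two_le_e := he2, het := het, disj := hdisj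
      triv := hoX, δ_triv := this, hδ := hδ, hε := hε, valX := hvalX, sumY := hvalY, rel := hrel
      degX := fun χ hχ => by simpa using hdX χ hχ
      degY := hdY, out := hout }⟩
  -- the trivial character is the only exceptional one
  have hoY : o ∈ Y := (Finset.mem_union.mp ((hmem _).mp (Blocks.trivIrr_mem_principalBlock _))).resolve_left hoX
  have ho_deg : charDegree (o : G → ℂ) = 1 := BrauerReynolds.degree_triv
  have hep : e + 1 ≤ p := by
    have := Nat.le_mul_of_pos_right e (Finset.card_pos.mpr hYne)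
    omega
  obtain ⟨hεm, hee⟩ : ε = -1 ∧ e + 1 = p := by
    have h := hdY o hoY
    rw [ho_deg, Nat.cast_one] at h
    obtain ⟨k, hk⟩ := Int.modEq_iff_dvd.mp h
    have hk' : k = 0 ∨ k = -1 := by
      rcases lt_trichotomy k (-1) with a | a | a
      · exfalso
        have : (p : ℤ) * k ≤ p * (-2) := mul_le_mul_of_nonneg_left (by omega) (by positivity)
        rcases hε with b | b <;> rw [b] at hk <;> omega
      · exact Or.inr a
      · rcases lt_trichotomy k 0 with b | b | b
        · omega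
        · exact Or.inl b
        · exfalso
          have : (p : ℤ) * 1 ≤ p * k := mul_le_mul_of_nonneg_left (by omega) (by positivity)
          rcases hε with b | b <;> rw [b] at hk <;> omega
    rcases hε with b | b <;> rw [b] at hk <;> rcases hk' with a | a <;> rw [a] at hk <;>
      first | omega | exact ⟨b, by omega⟩
  have hY1 : Y.card = 1 := by
    have h : e * Y.card = e * 1 := by rw [mul_one]; omega
    exact Nat.eq_of_mul_eq_mul_left (by omega) h
  have hYo : Y = {o} := (Finset.eq_of_subset_of_card_le (Finset.singleton_subset_iff.mpr hoY)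
    (by rw [hY1, Finset.card_singleton])).symm
  obtain ⟨χ₀, hχ₀⟩ : X.Nonempty := Finset.card_pos.mp (by rw [hXc]; omega)
  have hne : χ₀ ≠ o := fun h => hoX (h ▸ hχ₀)
  set δ' := Function.update δ o 1 with hδ'
  have hd' : ∀ χ ∈ X.erase χ₀, δ' χ = δ χ := fun χ hχ =>
    Function.update_of_ne (fun h : χ = o => hoX (h ▸ Finset.mem_of_mem_erase hχ)) _ _
  have hd1 : δ' o = 1 := Function.update_self _ _ _
  refine ⟨{
    e := e, X := insert o (X.erase χ₀), Y := {χ₀}, δ := δ', ε := -δ χ₀, two_le_e := he2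
    het := by rw [Finset.card_singleton, mul_one]; exact hee
    disj := Finset.disjoint_singleton_right.mpr (by simp [hne])
    triv := Finset.mem_insert_self _ _
    δ_triv := hd1
    hδ := ?_, hε := by rcases hδ χ₀ hχ₀ with h | h <;> simp [h]
    valX := ?_, sumY := ?_, rel := ?_, degX := ?_, degY := ?_, out := ?_ }⟩
  · intro χ hχ
    rcases Finset.mem_insert.mp hχ with rfl | hχ
    · exact Or.inl hd1
    · rw [hd' χ hχ]; exact hδ χ (Finset.mem_of_mem_erase hχ)
  · intro χ hχ u hu hu1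
    rcases Finset.mem_insert.mp hχ with rfl | hχ
    · rw [hd1, ho1, Int.cast_one]
    · rw [hd' χ hχ]; exact hvalX χ (Finset.mem_of_mem_erase hχ) u hu hu1
  · intro u hu hu1
    rw [Finset.sum_singleton, hvalX χ₀ hχ₀ u hu hu1, Int.cast_neg, neg_neg]
  · intro ψ hψ g hg
    obtain rfl := Finset.mem_singleton.mp hψ
    have h := hrel o hoY g hg
    rw [hεm, ho1, ← Finset.add_sum_erase X _ hχ₀] at h
    rw [Finset.sum_insert (fun h => hoX (Finset.mem_of_mem_erase h)), hd1, ho1,
      Finset.sum_congr rfl (g := fun χ => (δ χ : ℂ) * (χ : G → ℂ) g) fun χ hχ => by rw [hd' χ hχ]]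
    push_cast at h ⊢
    linear_combination h
  · intro χ hχ
    rcases Finset.mem_insert.mp hχ with rfl | hχ
    · rw [hd1, ho_deg]; rfl
    · rw [hd' χ hχ]; simpa using hdX χ (Finset.mem_of_mem_erase hχ)
  · intro ψ hψ
    obtain rfl := Finset.mem_singleton.mp hψ
    refine Int.ModEq.trans (show _ ≡ δ ψ [ZMOD p] by simpa using hdX ψ hχ₀) ?_
    refine Int.modEq_iff_dvd.mpr ⟨-δ ψ, ?_⟩
    rw [← hee]; push_cast; ring
  · intro hC χ h1 h2 u hu hu1
    rw [Finset.mem_singleton] at h2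
    rw [Finset.mem_insert, Finset.mem_erase, not_or, not_and] at h1
    exact hout hC χ (fun h => h1.2 h2 h) (by rw [hYo, Finset.mem_singleton]; exact h1.1) u hu hu1

end CfsgLib.DegreeTwoPrime
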