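import Cfsg.Agent.Lib.Perm.DegreeTwoPrime.Block
import Cfsg.Agent.Lib.PMinusTwo.DegreeTwoP
import Cfsg.Agent.Lib.Char.Kernel

/-!
# The constituents of a primitive, not doubly transitive group of degree `2 p`

They are the trivial character, a family `Λ` of total degree `p - 1` and one character `R` of degree `p`.
-/

set_option autoImplicit false
set_option linter.unusedSectionVars false
set_option linter.style.haveILetI false

namespace CfsgLib.DegreeTwoPrime

open Cfsg CfsgLib MulAction
open scoped ComplexConjugate CfsgLib.Char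
open scoped _root_.Classical

section Linear

variable {G : Type*} [Group G] [Fintype G] {Ω : Type*} [MulAction G Ω] [Fintype Ω]

/-- A linear constituent of the permutation character is trivial if the commutator subgroup is
transitive. -/
theorem linear_constituent (K : Subgroup G) (hK : K ≤ commutator G) [IsPretransitive K Ω]
    (χ : IrrCharacter G) (hd : charDegree (χ : G → ℂ) = 1)
    (h : classInner (fun g : G => (Nat.card (fixedBy Ω g) : ℂ)) (χ : G → ℂ) ≠ 0) :
    χ = Blocks.trivIrr G := by
  have h1 : (χ : G → ℂ) 1 = 1 := by rw [(Blocks.irr_degree_eq χ).1, hd, Nat.cast_one]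
  set f := Char.linearHom (Char.isCharacter_of_isIrr χ.2) h1 with hf
  have hval : ∀ g : G, (f g : ℂ) = (χ : G → ℂ) g := fun g => by rw [hf, Char.linearHom_apply]
  have hker : ∀ g ∈ commutator G, f g = 1 := fun g hg =>
    MonoidHom.mem_ker.mp (Abelianization.commutator_subset_ker f hg)
  obtain ⟨x, hx⟩ : ∃ x : Ω, ∀ s ∈ stabilizer G x, f s = 1 := by
    by_contra hne
    push Not at hne
    apply h
    rw [classInner]
    refine mul_eq_zero_of_right _ ?_
    rw [Finset.sum_congr rfl (g := fun g : G => ∑ x : Ω, if g • x = x then conj ((χ : G → ℂ) g) else 0)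
      fun g _ => by
        rw [← Finset.sum_filter, Finset.sum_const, nsmul_eq_mul, Nat.card_eq_fintype_card,
          Fintype.card_subtype]
        rfl, Finset.sum_comm]
    refine Finset.sum_eq_zero fun x _ => ?_
    obtain ⟨s, hs, hfs⟩ := hne x
    set T := ∑ g : G, (if g • x = x then conj ((χ : G → ℂ) g) else 0) with hT
    have : conj ((χ : G → ℂ) s) * T = T := by
      rw [hT, Finset.mul_sum]
      refine Fintype.sum_equiv (Equiv.mulLeft s) _ _ fun g => ?_
      rw [Equiv.coe_mulLeft, mul_smul]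
      have : s • g • x = x ↔ g • x = x := by
        rw [smul_eq_iff_eq_inv_smul, inv_smul_eq_iff.mpr (mem_stabilizer_iff.mp hs).symm]
      by_cases hg : g • x = x
      · rw [if_pos hg, if_pos (this.mpr hg), ← hval, ← hval, ← hval, map_mul, Units.val_mul, map_mul]
      · rw [if_neg hg, if_neg (fun e => hg (this.mp e)), mul_zero]
    have hne1 : conj ((χ : G → ℂ) s) ≠ 1 := fun e => hfs (Units.ext (by
      have e' := congrArg conj e
      rw [Complex.conj_conj, map_one] at e'
      rw [hval, e', Units.val_one]))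
    exact (mul_left_eq_self₀.mp this).resolve_left hne1
  refine Subtype.ext (funext fun g => ?_)
  obtain ⟨c, hc⟩ := exists_smul_eq K x (g • x)
  have hs : (c : G)⁻¹ * g ∈ stabilizer G x := by
    rw [mem_stabilizer_iff, mul_smul, inv_smul_eq_iff]
    exact hc.symm
  have : f g = 1 := by
    rw [show g = (c : G) * ((c : G)⁻¹ * g) by group, map_mul, hker _ (hK c.2), hx _ hs, one_mul]
  rw [← hval, this]
  rfl

end Linear

variable {α : Type*} [Fintype α] [DecidableEq α] {p : ℕ} [Fact p.Prime]
  (G : Subgroup (Equiv.Perm α))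

/-- The constituents. -/
structure Decomp [Fintype G] where
  v : G
  ordv : orderOf v = p
  free : ∀ (i : ℕ) (x : α), 0 < i → i < p → v ^ i • x ≠ x
  L : Finset (IrrCharacter G)
  R : IrrCharacter G
  triv_not_mem : Blocks.trivIrr G ∉ L
  R_not_mem : R ∉ L
  R_ne_triv : R ≠ Blocks.trivIrr G
  L_nonempty : L.Nonempty
  perm : (fun g : G => (Nat.card (fixedBy α g) : ℂ)) = ∑ χ : IrrCharacter G,
    (((if χ = Blocks.trivIrr G ∨ χ = R ∨ χ ∈ L then 1 else 0 : ℕ) : ℕ) : ℂ) • (χ : G → ℂ)
  degL : ∑ χ ∈ L, (charDegree (χ : G → ℂ) : ℤ) = p - 1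
  degR : charDegree (R : G → ℂ) = p
  valL : ∀ i, 0 < i → i < p → ∑ χ ∈ L, (χ : G → ℂ) (v ^ i) = -1
  valR : ∀ i, 0 < i → i < p → (R : G → ℂ) (v ^ i) = 0
  rank : ∀ a : α, Nat.card (orbitRel.Quotient (stabilizer G a) α) = L.card + 2
  not_normal : ∀ K : Subgroup G, K.Normal → K ≠ ⊥ → 2 * p ∣ Nat.card K

theorem perm_inv_order_two {g : Equiv.Perm α} (hα : Fintype.card α = 2 * p) (h2 : g * g = 1)
    (hfree : ∀ x, g x ≠ x) : Equiv.Perm.sign g = (-1 : ℤˣ) ^ (p + p + p) := by
  have hne : g ≠ 1 := fun e => by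
    obtain ⟨x⟩ : Nonempty α := Fintype.card_pos_iff.mp (by
      rw [hα]; have := (Fact.out : p.Prime).pos; omega)
    exact hfree x (by rw [e]; rfl)
  have hord : orderOf g = 2 := orderOf_eq_prime (by rw [pow_two, h2]) hne
  obtain ⟨n, hn⟩ := Equiv.Perm.cycleType_prime_order (σ := g) (hord ▸ Nat.prime_two)
  rw [hord] at hn
  have hsupp : g.support.card = 2 * p := by
    rw [← hα, ← Finset.card_univ]
    congr 1
    exact Finset.eq_univ_of_forall fun x => Equiv.Perm.mem_support.mpr (hfree x)
  have hsum := g.sum_cycleType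
  rw [hn, Multiset.sum_replicate, smul_eq_mul, hsupp] at hsum
  rw [Equiv.Perm.sign_of_cycleType, hn, Multiset.sum_replicate, smul_eq_mul, Multiset.card_replicate,
    hsum]
  congr 1
  omega

variable {G}

set_option maxHeartbeats 1600000 in
theorem exists_decomp [Fintype G] (hp : 2 < p) (hα : Fintype.card α = 2 * p)
    (hprim : IsPreprimitive G α) (hnot2 : ¬ IsMultiplyPretransitive G α 2) :
    Nonempty (Decomp (p := p) G) := by
  have hpp := (Fact.out : p.Prime)
  haveI : IsPretransitive G α := hprim.toIsPretransitive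
  haveI : Nonempty α := Fintype.card_pos_iff.mp (by rw [hα]; omega)
  have x₀ : α := Classical.arbitrary α
  have hnormal : ∀ K : Subgroup G, K.Normal → K ≠ ⊥ → 2 * p ∣ Nat.card K :=
    fun K hK hne => PMinusTwo.TwoP.normal_dvd hα hprim hK hne
  have hfree1 : ∀ {v : G}, orderOf v = p → ∀ x : α, v • x ≠ x :=
    fun hv x => PMinusTwo.TwoP.free hp hα hprim hnot2 hv x
  have hdvd : 2 * p ∣ Nat.card G := by
    rw [← hα, ← Nat.card_eq_fintype_card, ← index_stabilizer_of_transitive G x₀]
    exact Subgroup.index_dvd_card _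
  obtain ⟨P⟩ := (inferInstance : Nonempty (Sylow p G))
  -- the Sylow subgroup has order `p`
  have hP : Nat.card P = p := by
    obtain ⟨k, hk⟩ := IsPGroup.iff_card.mp P.2
    have h1 : p ∣ Nat.card P := P.dvd_card_of_dvd_card ((dvd_mul_left p 2).trans hdvd)
    have hfix : ∀ g ∈ stabilizer (P : Subgroup G) x₀, g = 1 := by
      intro g hg
      by_contra hne
      have hgp : p ∣ orderOf g := by
        obtain ⟨j, hj⟩ := IsPGroup.iff_orderOf.mp P.2 g
        rcases j with _ | j
        · rw [pow_zero, orderOf_eq_one_iff] at hj; exact absurd hj hne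
        · rw [hj, pow_succ]; exact dvd_mul_left _ _
      obtain ⟨c, hc⟩ := hgp
      have hc0 : c ≠ 0 := fun h => (orderOf_pos g).ne' (by rw [hc, h, mul_zero])
      have hord : orderOf ((g : G) ^ c) = p := by
        rw [← Subgroup.coe_pow, Subgroup.orderOf_coe,
          orderOf_pow_of_dvd hc0 (by rw [hc]; exact dvd_mul_left c p), hc,
          Nat.mul_div_cancel _ (Nat.pos_of_ne_zero hc0)]
      refine hfree1 hord x₀ ?_
      have : (g : G) ∈ stabilizer G x₀ := hg
      exact mem_stabilizer_iff.mp (pow_mem this c)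
    have hbot : stabilizer (P : Subgroup G) x₀ = ⊥ := (Subgroup.eq_bot_iff_forall _).mpr hfix
    have hle : Nat.card P ≤ 2 * p := by
      have := Subgroup.card_mul_index (stabilizer (P : Subgroup G) x₀)
      rw [hbot, Subgroup.card_bot, one_mul] at this
      rw [← this, ← hbot, index_stabilizer, ← hα, ← Nat.card_eq_fintype_card, ← Set.ncard_univ α]
      exact Set.ncard_le_ncard (Set.subset_univ _)
    rcases k with _ | _ | k
    · rw [pow_zero] at hk; rw [hk] at h1; exact absurd (Nat.dvd_one.mp h1) hpp.ne_one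
    · rw [hk, zero_add, pow_one]
    · exfalso
      have : p ^ 2 ≤ Nat.card P := hk ▸ Nat.pow_le_pow_right hpp.pos (by omega)
      rw [pow_two] at this
      have := Nat.mul_le_mul_right p (show 3 ≤ p by omega)
      omega
  haveI hPcyc : IsCyclic (P : Subgroup G) := isCyclic_of_prime_card hP
  obtain ⟨⟨v, hvP⟩, hv⟩ := exists_prime_orderOf_dvd_card' (G := (P : Subgroup G)) p (dvd_of_eq hP.symm)
  rw [Subgroup.orderOf_mk] at hv
  have hPv : (P : Subgroup G) = Subgroup.zpowers v :=
    (Subgroup.eq_of_le_of_card_ge (Subgroup.zpowers_le.mpr hvP) (by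
      rw [Nat.card_zpowers, hv]; exact hP.le)).symm
  have hordpow : ∀ i, 0 < i → i < p → orderOf (v ^ i) = p := fun i h0 hi => by
    rw [Nat.Coprime.orderOf_pow]
    · exact hv
    · rw [hv]; exact (hpp.coprime_iff_not_dvd).mpr fun h => by
        have := Nat.le_of_dvd h0 h; omega
  have hfree : ∀ (i : ℕ) (x : α), 0 < i → i < p → v ^ i • x ≠ x := fun i x h0 hi =>
    hfree1 (hordpow i h0 hi) x
  have hvne : ∀ i, 0 < i → i < p → v ^ i ∈ (P : Subgroup G) ∧ v ^ i ≠ 1 := fun i h0 hi =>
    ⟨pow_mem hvP i, fun e => hfree i x₀ h0 hi (by rw [e, one_smul])⟩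
  have hPcomm : ∀ g : G, (∀ x ∈ (P : Subgroup G), Commute g x) ↔ g * v = v * g := fun g =>
    ⟨fun h => h v hvP, fun h x hx => by
      rw [hPv] at hx
      obtain ⟨i, rfl⟩ := Subgroup.mem_zpowers_iff.mp hx
      exact (show Commute g v from h).zpow_right i⟩
  have hnc : ¬ Subgroup.normalizer ((P : Subgroup G) : Set G) ≤
      Subgroup.centralizer ((P : Subgroup G) : Set G) := fun h =>
    PMinusTwo.TwoP.exists_inverting hα hprim P hP (K := ⊤) inferInstance le_top fun g _ hg x hx =>
      (Subgroup.mem_centralizer_iff.mp (h hg) x hx).symm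
  obtain ⟨W⟩ := exists_rows P hP hnc
  -- multiplicities
  obtain ⟨m, hm⟩ := Char.exists_multiplicities (Char.isCharacter_character (Cfsg.permRep ℂ G α))
  rw [Cfsg.Agent.Lib.Perm.permRep_character] at hm
  have hin : ∀ χ : IrrCharacter G,
      classInner (fun g : G => (Nat.card (fixedBy α g) : ℂ)) (χ : G → ℂ) = m χ := fun χ => by
    rw [hm, Char.classInner_sum_smul_irr]
  have hrank : ∀ a : α, Nat.card (orbitRel.Quotient (stabilizer G a) α) = ∑ χ, m χ * m χ := fun a => by
    obtain ⟨m', hin', hsq, -, -⟩ := Cfsg.Agent.Lib.Perm.exists_mult (G := G) a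
    have : m' = m := funext fun χ => Nat.cast_injective (R := ℂ) ((hin' χ).symm.trans (hin χ))
    rw [← this, hsq]
  set o := Blocks.trivIrr G with ho
  have hmo : m o = 1 := by
    have h := Cfsg.Agent.Lib.Perm.classInner_one_eq (G := G) (Ω := α)
    rw [show (fun _ : G => (1 : ℂ)) = ((o : IrrCharacter G) : G → ℂ) from rfl, hin o] at h
    exact_mod_cast h
  set d : IrrCharacter G → ℕ := fun χ => charDegree (χ : G → ℂ) with hd
  have hd1 : ∀ χ : IrrCharacter G, (χ : G → ℂ) 1 = d χ := fun χ => (Blocks.irr_degree_eq χ).1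
  have hdpos : ∀ χ, 0 < d χ := fun χ => (Blocks.irr_degree_eq χ).2
  have hdo : d o = 1 := BrauerReynolds.degree_triv
  have hsum : ∑ χ, m χ * d χ = 2 * p := by
    have h := congrFun hm 1
    have hfix : Nat.card (fixedBy α (1 : G)) = 2 * p := by
      rw [fixedBy_one_eq_univ, Nat.card_coe_set_eq, Set.ncard_univ, Nat.card_eq_fintype_card, hα]
    simp only [hfix, Finset.sum_apply, Pi.smul_apply, smul_eq_mul, hd1] at h
    exact_mod_cast h.symm
  have hlin : ∀ χ, m χ ≠ 0 → d χ = 1 → χ = o := by
    intro χ hχ hd1'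
    haveI : IsPretransitive (commutator G) α := by
      refine IsQuasiPreprimitive.isPretransitive_of_normal fun hfix => hnc fun g _ => ?_
      have hcomm : ∀ a b : G, a * b = b * a := fun a b => by
        refine (commutatorElement_eq_one_iff_mul_comm).mp (PMinusTwo.TwoP.eq_one_of_smul fun x => ?_)
        have hx : x ∈ fixedPoints (commutator G) α := hfix ▸ Set.mem_univ x
        exact hx ⟨_, Subgroup.commutator_mem_commutator (Subgroup.mem_top a) (Subgroup.mem_top b)⟩
      exact Subgroup.mem_centralizer_iff.mpr fun b _ => hcomm b g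
    exact linear_constituent (Ω := α) (commutator G) le_rfl χ hd1' (by rw [hin]; exact_mod_cast hχ)
  have hpart : ∀ s : Finset (IrrCharacter G), ∑ χ ∈ s, m χ * d χ ≤ 2 * p := fun s =>
    hsum ▸ Finset.sum_le_sum_of_subset (Finset.subset_univ s)
  -- no constituent of degree `2 p - 1`
  have hnot : ∀ χ, χ ≠ o → m χ ≠ 0 → d χ + 1 < 2 * p := by
    intro χ hχ hmχ
    by_contra hlt
    apply hnot2
    refine PMinusTwo.TwoP.two_transitive_of_rank fun a => ?_
    have h2 := hpart {o, χ}
    rw [Finset.sum_pair hχ.symm, hmo, hdo, one_mul] at h2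
    have hm1 : m χ = 1 := by
      by_contra h
      have : 2 * d χ ≤ m χ * d χ := Nat.mul_le_mul_right _ (by omega)
      omega
    have hz : ∀ ψ : IrrCharacter G, ψ ∉ ({o, χ} : Finset (IrrCharacter G)) → m ψ = 0 := by
      intro ψ hψ
      have h3 := hpart (insert ψ {o, χ})
      rw [Finset.sum_insert hψ, Finset.sum_pair hχ.symm, hmo, hdo, hm1] at h3
      by_contra h
      have : 1 * 1 ≤ m ψ * d ψ := Nat.mul_le_mul (by omega) (hdpos ψ)
      omega
    rw [hrank a, ← Finset.sum_subset (Finset.subset_univ ({o, χ} : Finset (IrrCharacter G)))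
      fun ψ _ hψ => by rw [hz ψ hψ, mul_zero], Finset.sum_pair hχ.symm, hmo, hm1]
  have hrest : ∀ (s : Finset (IrrCharacter G)), o ∈ s → ∑ χ ∈ s, m χ * d χ + 1 = 2 * p → False := by
    intro s hos hs
    have h := Finset.sum_sdiff (f := fun χ => m χ * d χ) (Finset.subset_univ s)
    rw [hsum] at h
    obtain ⟨ψ, hψ, hψ0⟩ := Finset.exists_ne_zero_of_sum_ne_zero
      (show ∑ χ ∈ Finset.univ \ s, m χ * d χ ≠ 0 by omega)
    have hle := Finset.single_le_sum (f := fun χ => m χ * d χ) (fun _ _ => Nat.zero_le _) hψ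
    have hmψ : m ψ ≠ 0 := fun e => hψ0 (by rw [e, zero_mul])
    have : 1 * d ψ ≤ m ψ * d ψ := Nat.mul_le_mul_right _ (by omega)
    have := hdpos ψ
    exact (Finset.mem_sdiff.mp hψ).2 (hlin ψ hmψ (by omega) ▸ hos)
  -- constituents in `X`
  have hX : ∀ χ ∈ W.X, χ ≠ o → m χ ≠ 0 →
      (W.δ χ = -1 ∧ d χ + 1 = p ∧ m χ = 1) ∨ (W.δ χ = 1 ∧ d χ = p + 1 ∧ m χ = 1) := by
    intro χ hχ hne hmχ
    have hd2 : 2 ≤ d χ := by
      have := hdpos χ
      by_contra h
      exact hne (hlin χ hmχ (by omega))
    have hlt := hnot χ hne hmχ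
    obtain ⟨k, hk⟩ := Int.modEq_iff_dvd.mp (show (d χ : ℤ) ≡ W.δ χ [ZMOD p] from W.degX χ hχ)
    have hk' : k = -1 := by
      have hδ := W.hδ χ hχ
      rcases lt_trichotomy k (-1) with a | a | a
      · exfalso
        have : (p : ℤ) * k ≤ p * (-2) := mul_le_mul_of_nonneg_left (by omega) (by positivity)
        omega
      · exact a
      · exfalso
        have : (p : ℤ) * 0 ≤ p * k := mul_le_mul_of_nonneg_left (by omega) (by positivity)
        omega
    rw [hk'] at hk
    have h2 := hpart {o, χ}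
    rw [Finset.sum_pair (Ne.symm hne), hmo, hdo, one_mul] at h2
    have hm1 : m χ = 1 := by
      by_contra h
      rcases Nat.lt_or_ge (m χ) 3 with h3 | h3
      · rw [show m χ = 2 by omega] at h2
        rcases W.hδ χ hχ with e | e <;> rw [e] at hk
        · omega
        · refine hrest {o, χ} (by simp) ?_
          rw [Finset.sum_pair (Ne.symm hne), hmo, hdo, one_mul, show m χ = 2 by omega]
          omega
      · have : 3 * d χ ≤ m χ * d χ := Nat.mul_le_mul_right _ h3
        rcases W.hδ χ hχ with e | e <;> rw [e] at hk <;> omega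
    rcases W.hδ χ hχ with e | e <;> rw [e] at hk
    · exact Or.inr ⟨e, by omega, hm1⟩
    · exact Or.inl ⟨e, by omega, hm1⟩
  have hπv : ∀ i, 0 < i → i < p → Nat.card (fixedBy α (v ^ i)) = 0 := fun i h0 hi => by
    haveI : IsEmpty (fixedBy α (v ^ i)) := ⟨fun ⟨x, hx⟩ => hfree i x h0 hi hx⟩
    exact Nat.card_of_isEmpty
  have hπsing : ∀ g : G, p ∣ orderOf g → Nat.card (fixedBy α g) = 0 := fun g hg => by
    obtain ⟨c, hc⟩ := hg
    have hc0 : c ≠ 0 := fun h => (orderOf_pos g).ne' (by rw [hc, h, mul_zero])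
    have hord : orderOf (g ^ c) = p := by
      rw [orderOf_pow_of_dvd hc0 (by rw [hc]; exact dvd_mul_left c p), hc,
        Nat.mul_div_cancel _ (Nat.pos_of_ne_zero hc0)]
    haveI : IsEmpty (fixedBy α g) := ⟨fun ⟨x, hx⟩ => hfree1 hord x
      (mem_stabilizer_iff.mp (pow_mem (mem_stabilizer_iff.mpr hx) c))⟩
    exact Nat.card_of_isEmpty
  -- the relation on the multiplicities
  have hrel : ∀ ψ ∈ W.Y, W.ε * m ψ = ∑ χ ∈ W.X, W.δ χ * m χ := by
    intro ψ hψ
    apply Int.cast_injective (α := ℂ)
    push_cast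
    simp only [← hin, classInner, Finset.mul_sum]
    rw [Finset.sum_comm]
    refine Finset.sum_congr rfl fun g _ => ?_
    by_cases hg : p ∣ orderOf g
    · simp only [hπsing g hg, Nat.cast_zero, zero_mul, mul_zero, Finset.sum_const_zero]
    · have h := congrArg conj (W.rel ψ hψ g hg)
      simp only [map_mul, map_sum, map_intCast] at h
      rw [mul_left_comm (W.ε : ℂ), mul_left_comm (W.ε : ℂ), h, Finset.mul_sum, Finset.mul_sum]
      exact Finset.sum_congr rfl fun χ _ => by ring
  obtain ⟨L, hLo, hLne, hLm, hLd, hLv⟩ : ∃ L : Finset (IrrCharacter G), o ∉ L ∧ L.Nonempty ∧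
      (∀ χ ∈ L, m χ = 1) ∧ ∑ χ ∈ L, d χ + 1 = p ∧
      ∀ i, 0 < i → i < p → ∑ χ ∈ L, (χ : G → ℂ) (v ^ i) = -1 := by
    have hYne : W.Y.Nonempty := Finset.card_pos.mp (Nat.pos_of_ne_zero fun h => by
      have := W.het
      rw [h, mul_zero] at this
      omega)
    by_cases hA : ∃ χ ∈ W.X, χ ≠ o ∧ m χ ≠ 0 ∧ W.δ χ = -1
    · obtain ⟨χ, hχ, hne, hmχ, hδ⟩ := hA
      rcases hX χ hχ hne hmχ with ⟨-, h2, h3⟩ | ⟨h1, -, -⟩
      · refine ⟨{χ}, by simp [hne.symm], Finset.singleton_nonempty _, by simpa using h3,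
          by rw [Finset.sum_singleton]; exact h2, fun i h0 hi => ?_⟩
        rw [Finset.sum_singleton, W.valX χ hχ _ (hvne i h0 hi).1 (hvne i h0 hi).2, hδ]
        simp
      · rw [hδ] at h1; norm_num at h1
    · have hpos : ∀ χ ∈ W.X, χ ≠ o → m χ ≠ 0 → W.δ χ = 1 ∧ d χ = p + 1 ∧ m χ = 1 := by
        intro χ hχ hne hmχ
        rcases hX χ hχ hne hmχ with ⟨h1, -, -⟩ | h
        · exact absurd ⟨χ, hχ, hne, hmχ, h1⟩ hA
        · exact h
      set q := ∑ χ ∈ W.X.erase o, m χ with hq
      have hS : ∑ χ ∈ W.X, W.δ χ * m χ = 1 + (q : ℤ) := by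
        rw [← Finset.add_sum_erase _ _ W.triv, ← ho, hmo, W.δ_triv, hq, Nat.cast_sum, Nat.cast_one, mul_one]
        congr 1
        refine Finset.sum_congr rfl fun χ hχ => ?_
        obtain ⟨hne, hχ⟩ := Finset.mem_erase.mp hχ
        rcases eq_or_ne (m χ) 0 with e | e
        · simp [e]
        · rw [(hpos χ hχ hne e).1, one_mul]
      obtain ⟨ψ₀, hψ₀⟩ := hYne
      have hr0 := hrel ψ₀ hψ₀
      rw [hS] at hr0
      have hε : W.ε = 1 := by
        rcases W.hε with e | e
        · exact e
        · rw [e] at hr0; omega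
      have hmY : ∀ ψ ∈ W.Y, m ψ = 1 + q := fun ψ hψ => by
        have h := hrel ψ hψ
        rw [hS, hε, one_mul] at h
        exact_mod_cast h
      have hep : W.e < p := by
        have := Nat.le_mul_of_pos_right W.e (Finset.card_pos.mpr ⟨ψ₀, hψ₀⟩)
        have := W.het
        omega
      have hde : ∀ ψ ∈ W.Y, ∃ k : ℕ, d ψ = W.e + k * p := fun ψ hψ => by
        have h := (Int.natCast_modEq_iff (n := p)).mp (show (d ψ : ℤ) ≡ ((W.e : ℕ) : ℤ) [ZMOD p] by simpa [hε] using W.degY ψ hψ)
        refine ⟨d ψ / p, ?_⟩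
        have h1 : d ψ % p = W.e := by rw [h, Nat.mod_eq_of_lt hep]
        conv_lhs => rw [← Nat.mod_add_div (d ψ) p, h1, mul_comm]
      have htot : (1 + q) * ∑ ψ ∈ W.Y, d ψ + q * (p + 1) + 1 ≤ 2 * p := by
        have h := hpart (W.X ∪ W.Y)
        rw [Finset.sum_union W.disj, ← Finset.add_sum_erase _ _ W.triv, ← ho, hmo, hdo, one_mul,
          Finset.sum_congr (s₁ := W.Y) rfl fun ψ hψ => by rw [hmY ψ hψ], ← Finset.mul_sum] at h
        rw [hq, Finset.sum_mul]
        have hXs : ∑ χ ∈ W.X.erase o, m χ * (p + 1) = ∑ χ ∈ W.X.erase o, m χ * d χ := by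
          refine Finset.sum_congr rfl fun χ hχ => ?_
          obtain ⟨hne, hχ⟩ := Finset.mem_erase.mp hχ
          rcases eq_or_ne (m χ) 0 with e | e
          · simp [e]
          · rw [(hpos χ hχ hne e).2.1]
        rw [hXs, ← hq]
        linarith
      have hYe : p ≤ ∑ ψ ∈ W.Y, d ψ + 1 := by
        have hh : W.Y.card • W.e ≤ ∑ ψ ∈ W.Y, d ψ := Finset.card_nsmul_le_sum _ _ _ fun ψ hψ => by
          obtain ⟨k, hk⟩ := hde ψ hψ
          omega
        rw [smul_eq_mul, mul_comm] at hh
        have := W.het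
        omega
      have hq0 : q = 0 := by
        by_contra h
        have h1 : 2 * (∑ ψ ∈ W.Y, d ψ) ≤ (1 + q) * ∑ ψ ∈ W.Y, d ψ := Nat.mul_le_mul_right _ (by omega)
        have h2 : 1 * (p + 1) ≤ q * (p + 1) := Nat.mul_le_mul_right _ (by omega)
        omega
      rw [hq0] at hmY htot
      rw [add_zero, one_mul, zero_mul, add_zero] at htot
      have hall : ∀ ψ ∈ W.Y, d ψ = W.e := by
        intro ψ hψ
        obtain ⟨k, hk⟩ := hde ψ hψ
        rcases Nat.eq_zero_or_pos k with hk0 | hk0
        · rw [hk, hk0, zero_mul, add_zero]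
        exfalso
        have hψo : ψ ≠ o := fun e => Finset.disjoint_left.mp W.disj W.triv (by rw [← ho, ← e]; exact hψ)
        have hlt := hnot ψ hψo (by rw [hmY ψ hψ]; norm_num)
        have heq : ∀ φ ∈ W.Y, d φ = d ψ := fun φ hφ => by
          have h1 := W.rel φ hφ 1 (orderOf_one (G := G) ▸ hpp.not_dvd_one)
          have h2 := W.rel ψ hψ 1 (orderOf_one (G := G) ▸ hpp.not_dvd_one)
          rw [hd1, hε, Int.cast_one, one_mul] at h1 h2
          exact_mod_cast h1.trans h2.symm
        rw [Finset.sum_congr rfl heq, Finset.sum_const, smul_eq_mul, hk] at htot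
        have hkp : 1 * p ≤ k * p := Nat.mul_le_mul_right _ hk0
        have hexp : W.Y.card * (W.e + k * p) = W.e * W.Y.card + W.Y.card * (k * p) := by ring
        have := W.het
        rcases Nat.lt_or_ge W.Y.card 2 with hc | hc
        · have hc1 : W.Y.card = 1 := by
            have := Finset.card_pos.mpr ⟨ψ, hψ⟩
            omega
          rw [hc1, one_mul] at hexp htot
          rw [hk] at hlt
          rw [hc1] at this
          omega
        · have : 2 * (k * p) ≤ W.Y.card * (k * p) := Nat.mul_le_mul_right _ hc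
          omega
      refine ⟨W.Y, fun h => Finset.disjoint_left.mp W.disj W.triv h, ⟨ψ₀, hψ₀⟩,
        fun ψ hψ => by rw [hmY ψ hψ], ?_, fun i h0 hi => by
          rw [W.sumY _ (hvne i h0 hi).1 (hvne i h0 hi).2, hε]; simp⟩
      rw [Finset.sum_congr rfl hall, Finset.sum_const, smul_eq_mul, mul_comm]
      exact W.het
  -- the remainder
  set n : IrrCharacter G → ℕ := fun χ => if χ = o ∨ χ ∈ L then 0 else m χ with hn
  have hsplit : ∀ f : IrrCharacter G → ℂ, ∑ χ : IrrCharacter G, (m χ : ℂ) * f χ =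
      f o + ∑ χ ∈ L, f χ + ∑ χ : IrrCharacter G, (n χ : ℂ) * f χ := by
    intro f
    have : ∀ χ : IrrCharacter G, (m χ : ℂ) * f χ =
        (if χ ∈ insert o L then f χ else 0) + (n χ : ℂ) * f χ := fun χ => by
      by_cases h : χ = o ∨ χ ∈ L
      · simp only [hn, if_pos h, Finset.mem_insert, if_true, Nat.cast_zero, zero_mul, add_zero]
        rcases h with rfl | h
        · rw [hmo, Nat.cast_one, one_mul]
        · rw [hLm χ h, Nat.cast_one, one_mul]
      · simp only [hn, if_neg h, Finset.mem_insert, zero_add]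
    rw [Finset.sum_congr rfl fun χ _ => this χ, Finset.sum_add_distrib, Finset.sum_ite_mem,
      Finset.univ_inter, Finset.sum_insert hLo]
  set Rf : G → ℂ := fun g => ∑ χ : IrrCharacter G, (n χ : ℂ) * (χ : G → ℂ) g with hRf
  have hπ : ∀ g : G, (Nat.card (fixedBy α g) : ℂ) = 1 + ∑ χ ∈ L, (χ : G → ℂ) g + Rf g := fun g => by
    have := congrFun hm g
    simp only [Finset.sum_apply, Pi.smul_apply, smul_eq_mul] at this
    rw [this, hsplit]
    rfl
  have hRv : ∀ i, 0 < i → i < p → Rf (v ^ i) = 0 := fun i h0 hi => by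
    have := hπ (v ^ i)
    rw [hπv i h0 hi, hLv i h0 hi] at this
    push_cast at this
    linear_combination -this
  have hR1 : ∑ χ : IrrCharacter G, n χ * d χ = p := by
    have h := hsplit fun χ => (d χ : ℂ)
    rw [hdo] at h
    have h' : ∑ χ : IrrCharacter G, m χ * d χ = 1 + ∑ χ ∈ L, d χ + ∑ χ : IrrCharacter G, n χ * d χ := by
      exact_mod_cast h
    omega
  -- the even subgroup
  set H : Subgroup G := (Equiv.Perm.sign.comp G.subtype).ker with hH
  have hHn : H.Normal := MonoidHom.normal_ker _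
  have hvH : v ∈ H := by
    rw [hH, MonoidHom.mem_ker]
    refine orderOf_eq_one_iff.mp (Nat.eq_one_of_dvd_coprimes
      ((hpp.coprime_iff_not_dvd).mpr fun h => ?_ : Nat.Coprime p 2)
      (hv ▸ orderOf_map_dvd _ v) (orderOf_dvd_of_pow_eq_one ?_))
    · have := Nat.le_of_dvd two_pos h; omega
    · exact Int.units_sq _
  have hPH : (P : Subgroup G) ≤ H := hPv ▸ Subgroup.zpowers_le.mpr hvH
  haveI : IsPretransitive H α := by
    refine IsQuasiPreprimitive.isPretransitive_of_normal fun hfix => ?_
    have hx : x₀ ∈ fixedPoints H α := hfix ▸ Set.mem_univ x₀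
    exact hfree 1 x₀ one_pos hpp.one_lt (by rw [pow_one]; exact hx ⟨v, hvH⟩)
  have horb : ∀ (g : G), g * v = v * g → (∃ x : α, ∃ a : ℕ, g • x = v ^ a • x) →
      g ∈ (P : Subgroup G) := by
    rintro g hg ⟨x, a, hxa⟩
    set h := (v ^ a)⁻¹ * g with hh
    have hhc : Commute h v := ((Commute.pow_self v a).inv_left).mul_left hg
    have hhx : h • x = x := by rw [hh, mul_smul, hxa, inv_smul_smul]
    have hmod : ∀ i : ℕ, v ^ (i % p) = v ^ i := fun i => hv ▸ pow_mod_orderOf v i
    let O : α → Finset α := fun y => (Finset.range p).image fun i => v ^ i • y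
    have hOcard : ∀ y, (O y).card = p := fun y => by
      rw [Finset.card_image_of_injOn ?_, Finset.card_range]
      intro i hi j hj hij
      simp only [Finset.coe_range, Set.mem_Iio] at hi hj
      dsimp only at hij
      rcases Nat.lt_trichotomy i j with hlt | hlt | hlt
      · refine absurd ?_ (hfree (j - i) (v ^ i • y) (by omega) (by omega))
        rw [smul_smul, ← pow_add, show j - i + i = j by omega, hij]
      · exact hlt
      · refine absurd ?_ (hfree (i - j) (v ^ j • y) (by omega) (by omega))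
        rw [smul_smul, ← pow_add, show i - j + j = i by omega, hij]
    have hOmem : ∀ (y : α) (i : ℕ), v ^ i • y ∈ O y := fun y i =>
      Finset.mem_image.mpr ⟨i % p, Finset.mem_range.mpr (Nat.mod_lt _ hpp.pos), by rw [hmod]⟩
    have hfixO : ∀ w ∈ O x, h • w = w := fun w hw => by
      obtain ⟨i, -, rfl⟩ := Finset.mem_image.mp hw
      rw [smul_smul, (hhc.pow_right i).eq, mul_smul, hhx]
    have hout : ∀ y ∉ O x, (O y ∪ O x) = Finset.univ := by
      intro y hy
      refine Finset.eq_univ_of_card _ ?_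
      rw [Finset.card_union_of_disjoint ?_, hOcard, hOcard, hα, two_mul]
      rw [Finset.disjoint_left]
      intro w hw hw'
      obtain ⟨i, hi, rfl⟩ := Finset.mem_image.mp hw
      obtain ⟨j, -, hij⟩ := Finset.mem_image.mp hw'
      apply hy
      have := congrArg (v ^ (p - i) • ·) hij
      simp only [smul_smul, ← pow_add] at this
      rw [show p - i + i = p by have := Finset.mem_range.mp hi; omega,
        show v ^ p = 1 from hv ▸ pow_orderOf_eq_one v, one_smul] at this
      rw [← this]
      exact hOmem x _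
    have hh1 : h = 1 := by
      by_contra hne
      have hhp : h ^ p = 1 := by
        refine PMinusTwo.TwoP.eq_one_of_smul fun y => ?_
        by_cases hy : y ∈ O x
        · have : h ∈ stabilizer G y := mem_stabilizer_iff.mpr (hfixO y hy)
          exact mem_stabilizer_iff.mp (pow_mem this p)
        · have hhy : h • y ∈ O y := by
            by_contra hc
            have : h • y ∈ O x := by
              have := (hout y hy).ge (Finset.mem_univ (h • y))
              exact (Finset.mem_union.mp this).resolve_left hc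
            exact hy (by rw [← smul_left_cancel h (hfixO _ this)]; exact this)
          obtain ⟨b, -, hb⟩ := Finset.mem_image.mp hhy
          have hpow : ∀ k : ℕ, h ^ k • y = v ^ (b * k) • y := by
            intro k
            induction k with
            | zero => simp
            | succ k ih =>
              rw [pow_succ', mul_smul, ih, smul_smul, (hhc.pow_right _).eq, mul_smul, ← hb, smul_smul,
                ← pow_add, Nat.mul_succ]
          rw [hpow, mul_comm, pow_mul, show v ^ p = 1 from hv ▸ pow_orderOf_eq_one v, one_pow, one_smul]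
      exact hfree1 (orderOf_eq_prime hhp hne) x hhx
    rw [show g = v ^ a by rwa [hh, inv_mul_eq_one, eq_comm] at hh1]
    exact pow_mem hvP a
  have hCH : ∀ g ∈ H, g * v = v * g → g ∈ (P : Subgroup G) := by
    intro g hgH hg
    by_contra hgP
    have hno : ∀ (x : α) (a : ℕ), g • x ≠ v ^ a • x := fun x a e => hgP (horb g hg ⟨x, a, e⟩)
    have hg2 : g * g ∈ (P : Subgroup G) := by
      refine horb _ (Commute.mul_left hg hg) ⟨x₀, ?_⟩
      let O : α → Finset α := fun y => (Finset.range p).image fun i => v ^ i • y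
      have hmod : ∀ i : ℕ, v ^ (i % p) = v ^ i := fun i => hv ▸ pow_mod_orderOf v i
      have hOcard : ∀ y, (O y).card = p := fun y => by
        rw [Finset.card_image_of_injOn ?_, Finset.card_range]
        intro i hi j hj hij
        simp only [Finset.coe_range, Set.mem_Iio] at hi hj
        dsimp only at hij
        rcases Nat.lt_trichotomy i j with hlt | hlt | hlt
        · refine absurd ?_ (hfree (j - i) (v ^ i • y) (by omega) (by omega))
          rw [smul_smul, ← pow_add, show j - i + i = j by omega, hij]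
        · exact hlt
        · refine absurd ?_ (hfree (i - j) (v ^ j • y) (by omega) (by omega))
          rw [smul_smul, ← pow_add, show i - j + j = i by omega, hij]
      have hun : O x₀ ∪ O (g • x₀) = Finset.univ := by
        refine Finset.eq_univ_of_card _ ?_
        rw [Finset.card_union_of_disjoint ?_, hOcard, hOcard, hα, two_mul]
        rw [Finset.disjoint_left]
        intro w hw hw'
        obtain ⟨i, -, rfl⟩ := Finset.mem_image.mp hw
        obtain ⟨j, hj, hij⟩ := Finset.mem_image.mp hw'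
        have := congrArg (v ^ (p - j) • ·) hij
        simp only [smul_smul, ← mul_assoc, ← pow_add] at this
        rw [show p - j + j = p by have := Finset.mem_range.mp hj; omega,
          show v ^ p = 1 from hv ▸ pow_orderOf_eq_one v, one_mul] at this
        exact hno x₀ _ this
      rcases Finset.mem_union.mp (hun.ge (Finset.mem_univ ((g * g) • x₀))) with h | h
      · obtain ⟨a, -, ha⟩ := Finset.mem_image.mp h
        exact ⟨a, ha.symm⟩
      · exfalso
        obtain ⟨a, -, ha⟩ := Finset.mem_image.mp h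
        rw [smul_smul, ← (show Commute g (v ^ a) from Commute.pow_right hg a).eq, mul_smul, mul_smul] at ha
        exact hno x₀ a (smul_left_cancel g ha).symm
    obtain ⟨T, hT⟩ := hpp.odd_of_ne_two (by omega)
    have hw2 : g ^ p * g ^ p = 1 := by
      have h1 : (⟨g * g, hg2⟩ : (P : Subgroup G)) ^ p = 1 := by
        conv_lhs => arg 2; rw [← hP]
        exact pow_card_eq_one'
      have h2 := congrArg Subtype.val h1
      rw [Subgroup.coe_pow, Subgroup.coe_one] at h2
      rw [← pow_add, ← two_mul, pow_mul, pow_two]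
      exact h2
    have hwfree : ∀ y : α, g ^ p • y ≠ y := by
      intro y e
      have hmem : (g * g) ^ T ∈ (P : Subgroup G) := pow_mem hg2 T
      rw [hPv, ← mem_powers_iff_mem_zpowers, Submonoid.mem_powers_iff] at hmem
      obtain ⟨a, ha⟩ := hmem
      rw [hT, pow_succ', pow_mul, pow_two, ← ha, mul_smul] at e
      have : g • (v ^ a • y) = v ^ (p * a - a) • (v ^ a • y) := by
        rw [smul_smul (v ^ (p * a - a)), ← pow_add,
          Nat.sub_add_cancel (Nat.le_mul_of_pos_left a hpp.pos), pow_mul,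
          show v ^ p = 1 from hv ▸ pow_orderOf_eq_one v, one_pow, one_smul, e]
      exact hno _ _ this
    have hsign : Equiv.Perm.sign ((g ^ p : G) : Equiv.Perm α) = 1 := by
      have := MonoidHom.mem_ker.mp (pow_mem hgH p : g ^ p ∈ H)
      exact this
    rw [perm_inv_order_two hα (congrArg Subtype.val hw2) hwfree] at hsign
    have hodd : Odd (p + p + p) := ⟨3 * T + 1, by omega⟩
    rw [hodd.neg_one_pow] at hsign
    exact absurd hsign (by decide)
  set P' : Sylow p H := P.subtype hPH with hP'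
  have hP'mem : ∀ x : H, x ∈ (P' : Subgroup H) ↔ (x : G) ∈ (P : Subgroup G) := fun x => Iff.rfl
  have hP'c : Nat.card (P' : Subgroup H) = p :=
    (Nat.card_congr (Subgroup.subgroupOfEquivOfLe hPH).toEquiv).trans hP
  have hC' : Subgroup.centralizer ((P' : Subgroup H) : Set H) = (P' : Subgroup H) := by
    refine le_antisymm (fun g hg => (hP'mem g).mpr (hCH g g.2 ?_)) fun g hg => ?_
    · exact congrArg Subtype.val (Subgroup.mem_centralizer_iff.mp hg ⟨v, hvH⟩ hvP).symm
    · refine Subgroup.mem_centralizer_iff.mpr fun b hb => Subtype.ext ?_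
      exact congrArg (fun z : (P : Subgroup G) => (z : G))
        ((IsCyclic.commGroup (α := (P : Subgroup G))).mul_comm ⟨(b : G), hb⟩ ⟨(g : G), hg⟩)
  have hnc' : ¬ Subgroup.normalizer ((P' : Subgroup H) : Set H) ≤
      Subgroup.centralizer ((P' : Subgroup H) : Set H) := fun h =>
    PMinusTwo.TwoP.exists_inverting hα hprim P hP hHn hPH fun g hg hgN x hx => by
      have hg' : (⟨g, hg⟩ : H) ∈ Subgroup.normalizer ((P' : Subgroup H) : Set H) :=
        Subgroup.mem_normalizer_iff.mpr fun y => Subgroup.mem_normalizer_iff.mp hgN y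
      exact congrArg Subtype.val (Subgroup.mem_centralizer_iff.mp (h hg') ⟨x, hPH hx⟩ hx).symm
  obtain ⟨V⟩ := exists_rows P' hP'c hnc'
  haveI : Fintype H := Fintype.ofFinite H
  have hres : ∀ χ : IrrCharacter G, ∃ k : IrrCharacter H → ℕ,
      (fun h : H => (χ : G → ℂ) h) = ∑ ξ : IrrCharacter H, (k ξ : ℂ) • (ξ : H → ℂ) := fun χ =>
    Char.exists_multiplicities (Char.isCharacter_restrict H (Char.isCharacter_of_isIrr χ.2))
  choose K hK using hres
  set k : IrrCharacter H → ℕ := fun ξ => ∑ χ : IrrCharacter G, n χ * K χ ξ with hk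
  set e : IrrCharacter H → ℕ := fun ξ => charDegree (ξ : H → ℂ) with he
  have hk1 : ∀ h : H, Rf h = ∑ ξ : IrrCharacter H, (k ξ : ℂ) * (ξ : H → ℂ) h := fun h => by
    simp only [hk, Nat.cast_sum, Nat.cast_mul, Finset.sum_mul]
    rw [Finset.sum_comm]
    refine Finset.sum_congr rfl fun χ _ => ?_
    have := congrFun (hK χ) h
    simp only [Finset.sum_apply, Pi.smul_apply, smul_eq_mul] at this
    rw [this, Finset.mul_sum]
    exact Finset.sum_congr rfl fun ξ _ => by ring
  have hke : ∑ ξ : IrrCharacter H, k ξ * e ξ = p := by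
    have h := hk1 1
    simp only [hRf, Subgroup.coe_one, hd1, fun ξ => (Blocks.irr_degree_eq (G := H) ξ).1] at h
    have h' : ∑ χ : IrrCharacter G, n χ * d χ = ∑ ξ : IrrCharacter H, k ξ * e ξ := by exact_mod_cast h
    omega
  obtain ⟨mH, hmH⟩ := Char.exists_multiplicities (Char.isCharacter_character (Cfsg.permRep ℂ H α))
  rw [Cfsg.Agent.Lib.Perm.permRep_character] at hmH
  have hinH : ∀ ξ : IrrCharacter H,
      classInner (fun g : H => (Nat.card (fixedBy α g) : ℂ)) (ξ : H → ℂ) = mH ξ := fun ξ => by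
    rw [hmH, Char.classInner_sum_smul_irr]
  have hmKle : ∀ ξ : IrrCharacter H, K o ξ + k ξ ≤ mH ξ := by
    intro ξ
    have hmm : mH = fun ξ => ∑ χ : IrrCharacter G, m χ * K χ ξ := funext fun ξ => by
      apply Nat.cast_injective (R := ℂ)
      rw [← hinH, show (fun g : H => (Nat.card (fixedBy α g) : ℂ)) =
        ∑ η : IrrCharacter H, ((∑ χ : IrrCharacter G, m χ * K χ η : ℕ) : ℂ) • (η : H → ℂ) from ?_,
        Char.classInner_sum_smul_irr]
      funext h
      have h0 : (Nat.card (fixedBy α h) : ℂ) = (Nat.card (fixedBy α (h : G)) : ℂ) := rfl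
      have h1 := congrFun hm (h : G)
      simp only [Finset.sum_apply, Pi.smul_apply, smul_eq_mul] at h1 ⊢
      rw [h0, h1]
      push_cast
      simp only [Finset.sum_mul]
      rw [Finset.sum_comm (γ := IrrCharacter H)]
      refine Finset.sum_congr rfl fun χ _ => ?_
      have := congrFun (hK χ) h
      simp only [Finset.sum_apply, Pi.smul_apply, smul_eq_mul] at this
      rw [this, Finset.mul_sum]
      exact Finset.sum_congr rfl fun η _ => by ring
    rw [hmm]
    dsimp only
    simp only [hk]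
    rw [← Finset.add_sum_erase _ (fun χ => m χ * K χ ξ) (Finset.mem_univ o), ← Finset.add_sum_erase _ (fun χ => n χ * K χ ξ)
      (Finset.mem_univ o)]
    simp only [hmo, one_mul]
    rw [show n o = 0 from if_pos (Or.inl rfl), zero_mul, zero_add]
    refine Nat.add_le_add_left (Finset.sum_le_sum fun χ _ => Nat.mul_le_mul_right _ ?_) _
    simp only [hn]
    split_ifs
    · exact Nat.zero_le _
    · exact le_rfl
  set oH := Blocks.trivIrr H with hoH
  have hmoH : mH oH = 1 := by
    have h := Cfsg.Agent.Lib.Perm.classInner_one_eq (G := H) (Ω := α)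
    rw [show (fun _ : H => (1 : ℂ)) = ((oH : IrrCharacter H) : H → ℂ) from rfl, hinH] at h
    exact_mod_cast h
  have hKo : K o oH = 1 := by
    have h : classInner (fun h : H => (o : G → ℂ) h) (oH : H → ℂ) = (K o oH : ℂ) := by
      rw [hK o, Char.classInner_sum_smul_irr]
    rw [show (fun h : H => (o : G → ℂ) h) = (oH : H → ℂ) from rfl,
      Char.classInner_irr_self oH.2] at h
    exact_mod_cast h.symm
  have hkoH : k oH = 0 := by
    have := hmKle oH
    omega
  have hKcomm : IsPretransitive (commutator H) α := by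
    have hn' : ((commutator H).map H.subtype).Normal := by
      haveI := hHn
      exact ConjAct.normal_of_characteristic_of_normal
    have hne : (commutator H).map H.subtype ≠ ⊥ := by
      intro hb
      rw [Subgroup.map_eq_bot_iff_of_injective _ H.subtype_injective] at hb
      have hab : ∀ a b : H, a * b = b * a := fun a b => by
        refine commutatorElement_eq_one_iff_mul_comm.mp ?_
        rw [← Subgroup.mem_bot, ← hb]
        exact Subgroup.commutator_mem_commutator (Subgroup.mem_top a) (Subgroup.mem_top b)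
      have hHP : H ≤ (P : Subgroup G) := fun g hg =>
        hCH g hg (congrArg Subtype.val (hab ⟨g, hg⟩ ⟨v, hvH⟩))
      have hcard := hnormal H hHn fun e => (hvne 1 one_pos hpp.one_lt).2 (by
        rw [pow_one, ← Subgroup.mem_bot, ← e]; exact hvH)
      have := Nat.le_of_dvd Nat.card_pos (hcard.trans (Subgroup.card_dvd_of_le hHP))
      rw [hP] at this
      omega
    haveI : IsPretransitive ((commutator H).map H.subtype) α :=
      IsQuasiPreprimitive.isPretransitive_of_normal fun hfix => hne <|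
        (Subgroup.eq_bot_iff_forall _).mpr fun g hg => PMinusTwo.TwoP.eq_one_of_smul fun x => by
          have hx : x ∈ fixedPoints ((commutator H).map H.subtype) α := hfix ▸ Set.mem_univ x
          exact hx ⟨g, hg⟩
    refine ⟨fun a b => ?_⟩
    obtain ⟨⟨g, c, hc, rfl⟩, hgab⟩ := exists_smul_eq ((commutator H).map H.subtype) a b
    exact ⟨⟨c, hc⟩, hgab⟩
  have hklin : ∀ ξ : IrrCharacter H, k ξ ≠ 0 → e ξ ≠ 1 := by
    intro ξ hξ h1
    haveI := hKcomm
    have h0 : mH ξ ≠ 0 := by have := hmKle ξ; omega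
    have := linear_constituent (Ω := α) (commutator H) le_rfl ξ h1 (by rw [hinH]; exact_mod_cast h0)
    exact hξ (this ▸ hkoH)
  have hkX : ∀ ξ ∈ V.X, k ξ = 0 := by
    intro ξ hξ
    by_contra hne
    have h1 := hklin ξ hne
    have hpos : 0 < e ξ := (Blocks.irr_degree_eq ξ).2
    have hle : k ξ * e ξ ≤ p := hke ▸
      Finset.single_le_sum (f := fun η => k η * e η) (fun _ _ => Nat.zero_le _) (Finset.mem_univ ξ)
    have h2 : 1 * e ξ ≤ k ξ * e ξ := Nat.mul_le_mul_right _ (by omega)
    obtain ⟨c, hc⟩ := Int.modEq_iff_dvd.mp (show (e ξ : ℤ) ≡ V.δ ξ [ZMOD p] from V.degX ξ hξ)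
    have hc' : c = 0 ∨ c = -1 := by
      rcases lt_trichotomy c (-1) with a | a | a
      · exfalso
        have : (p : ℤ) * c ≤ p * (-2) := mul_le_mul_of_nonneg_left (by omega) (by positivity)
        rcases V.hδ ξ hξ with a | a <;> rw [a] at hc <;> omega
      · exact Or.inr a
      · rcases lt_trichotomy c 0 with b | b | b
        · omega
        · exact Or.inl b
        · exfalso
          have : (p : ℤ) * 1 ≤ p * c := mul_le_mul_of_nonneg_left (by omega) (by positivity)
          rcases V.hδ ξ hξ with a | a <;> rw [a] at hc <;> omega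
    have hep : e ξ + 1 = p := by
      rcases V.hδ ξ hξ with a | a <;> rw [a] at hc <;> rcases hc' with b | b <;> rw [b] at hc <;> omega
    have hk1' : k ξ = 1 := by
      by_contra h
      have : 2 * e ξ ≤ k ξ * e ξ := Nat.mul_le_mul_right _ (by omega)
      omega
    have h := Finset.add_sum_erase Finset.univ (fun η => k η * e η) (Finset.mem_univ ξ)
    rw [hke, hk1', one_mul] at h
    obtain ⟨η, hη, hη0⟩ := Finset.exists_ne_zero_of_sum_ne_zero
      (show ∑ η ∈ Finset.univ.erase ξ, k η * e η ≠ 0 by omega)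
    have hle' := Finset.single_le_sum (f := fun η => k η * e η) (fun _ _ => Nat.zero_le _) hη
    have hkη : k η ≠ 0 := fun e0 => hη0 (by rw [e0, zero_mul])
    have : 1 * e η ≤ k η * e η := Nat.mul_le_mul_right _ (by omega)
    have : 0 < e η := (Blocks.irr_degree_eq η).2
    exact hklin η hkη (by omega)
  have hRsing : ∀ h : H, p ∣ orderOf h → Rf h = 0 := by
    intro h hh
    have hord : orderOf (h : G) = orderOf h := Subgroup.orderOf_coe h
    obtain ⟨c, hc⟩ := hh
    have hc0 : c ≠ 0 := fun e0 => (orderOf_pos h).ne' (by rw [hc, e0, mul_zero])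
    have hoc : orderOf ((h : G) ^ c) = p := by
      rw [orderOf_pow_of_dvd hc0 (by rw [hord, hc]; exact dvd_mul_left c p), hord, hc,
        Nat.mul_div_cancel _ (Nat.pos_of_ne_zero hc0)]
    obtain ⟨Q, hQ⟩ := (IsPGroup.of_card (n := 1) (G := Subgroup.zpowers ((h : G) ^ c))
      (by rw [Nat.card_zpowers, hoc, pow_one])).exists_le_sylow
    obtain ⟨g, hg⟩ := MulAction.exists_smul_eq G Q P
    have hmem : g * (h : G) ^ c * g⁻¹ ∈ (P : Subgroup G) := by
      rw [← hg, Sylow.coe_subgroup_smul]
      exact ⟨(h : G) ^ c, hQ (Subgroup.mem_zpowers _), by simp [MulAut.smul_def]⟩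
    rw [← conj_pow] at hmem
    set w := g * (h : G) * g⁻¹ with hw
    have hwc : w ^ c ≠ 1 := fun e0 => by
      rw [hw, conj_pow, conj_eq_one_iff] at e0
      rw [e0, orderOf_one] at hoc
      omega
    have hwP : w ∈ (P : Subgroup G) := by
      refine hCH w (hHn.conj_mem _ h.2 g) ((hPcomm w).mp fun x hx => ?_)
      have hz : Subgroup.zpowers (w ^ c) = (P : Subgroup G) :=
        Subgroup.eq_of_le_of_card_ge (Subgroup.zpowers_le.mpr hmem) (by
          rw [hP, Nat.card_zpowers, hw, conj_pow, ← MulAut.conj_apply, MulEquiv.orderOf_eq, hoc])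
      rw [← hz] at hx
      obtain ⟨i, rfl⟩ := Subgroup.mem_zpowers_iff.mp hx
      exact ((Commute.self_pow w c).zpow_right i)
    rw [hPv, ← mem_powers_iff_mem_zpowers, Submonoid.mem_powers_iff] at hwP
    obtain ⟨i, hi⟩ := hwP
    have hi0 : i % p ≠ 0 := fun e0 => by
      have h1 : w = 1 := by rw [← hi, ← pow_mod_orderOf, hv, e0, pow_zero]
      exact hwc (by rw [h1, one_pow])
    have hval : Rf (h : G) = Rf (v ^ (i % p)) := by
      rw [show v ^ (i % p) = w by rw [← hi]; exact hv ▸ pow_mod_orderOf v i]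
      exact Finset.sum_congr rfl fun χ _ => by rw [hw, Blocks.irr_classFunction χ (h : G) g]
    rw [hval, hRv _ (Nat.pos_of_ne_zero hi0) (Nat.mod_lt _ hpp.pos)]
  have hkY : ∀ ψ ∈ V.Y, k ψ = 0 := by
    intro ψ hψ
    have hk_in : ∀ ξ : IrrCharacter H, classInner (fun h : H => Rf h) (ξ : H → ℂ) = k ξ := fun ξ => by
      rw [show (fun h : H => Rf h) = ∑ η : IrrCharacter H, (k η : ℂ) • (η : H → ℂ) from funext fun h => by
        rw [hk1, Finset.sum_apply]; rfl, Char.classInner_sum_smul_irr]
    have key : (V.ε : ℂ) * (k ψ : ℂ) = ∑ χ ∈ V.X, (V.δ χ : ℂ) * (k χ : ℂ) := by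
      simp only [← hk_in, classInner, Finset.mul_sum]
      rw [Finset.sum_comm]
      refine Finset.sum_congr rfl fun g _ => ?_
      by_cases hg : p ∣ orderOf g
      · simp [hRsing g hg]
      · have h := congrArg conj (V.rel ψ hψ g hg)
        simp only [map_mul, map_sum, map_intCast] at h
        rw [mul_left_comm (V.ε : ℂ), mul_left_comm (V.ε : ℂ), h, Finset.mul_sum, Finset.mul_sum]
        exact Finset.sum_congr rfl fun χ _ => by ring
    rw [Finset.sum_eq_zero fun χ hχ => by rw [hkX χ hχ, Nat.cast_zero, mul_zero]] at key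
    have := (mul_eq_zero.mp key).resolve_left (by rcases V.hε with a | a <;> simp [a])
    exact_mod_cast this
  have hkdiv : ∀ ξ : IrrCharacter H, k ξ ≠ 0 → p ∣ e ξ := by
    intro ξ hξ
    obtain ⟨N, hN⟩ := DihBlock.exists_mult ξ (N := p) (s := (⟨v, hvH⟩ : H))
      (Subtype.ext (hv ▸ pow_orderOf_eq_one v)) hpp.pos (c := 1) (one_pow p)
    rw [Finset.sum_eq_single 0 (fun i hi h0 => by
      rw [V.out hC' ξ (fun h => hξ (hkX ξ h)) (fun h => hξ (hkY ξ h)) _
        ((hP'mem _).mpr (pow_mem hvP i)) (fun e0 => (hvne i (Nat.pos_of_ne_zero h0)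
          (Finset.mem_range.mp hi)).2 (congrArg Subtype.val e0)), zero_mul])
      (fun h => absurd (Finset.mem_range.mpr hpp.pos) h), pow_zero, pow_zero, mul_one,
      (Blocks.irr_degree_eq ξ).1] at hN
    exact ⟨N, by exact_mod_cast hN⟩
  -- every part of the remainder has degree a multiple of `p`
  have hndiv : ∀ χ : IrrCharacter G, n χ ≠ 0 → p ∣ d χ := by
    intro χ hχ
    have h := congrFun (hK χ) 1
    simp only [Finset.sum_apply, Pi.smul_apply, smul_eq_mul, Subgroup.coe_one, hd1,
      fun ξ => (Blocks.irr_degree_eq (G := H) ξ).1] at h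
    have h' : d χ = ∑ ξ : IrrCharacter H, K χ ξ * e ξ := by exact_mod_cast h
    rw [h']
    refine Finset.dvd_sum fun ξ _ => ?_
    rcases eq_or_ne (K χ ξ) 0 with h0 | h0
    · rw [h0, zero_mul]; exact dvd_zero _
    · refine (hkdiv ξ fun hk0 => ?_).mul_left _
      have := (Finset.sum_eq_zero_iff.mp hk0) χ (Finset.mem_univ χ)
      rcases mul_eq_zero.mp this with a | a
      · exact hχ a
      · exact h0 a
  obtain ⟨R, -, hR0⟩ := Finset.exists_ne_zero_of_sum_ne_zero
    (show ∑ χ : IrrCharacter G, n χ * d χ ≠ 0 by omega)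
  have hnR : n R ≠ 0 := fun e0 => hR0 (by rw [e0, zero_mul])
  have hsR := Finset.add_sum_erase Finset.univ (fun χ => n χ * d χ) (Finset.mem_univ R)
  rw [hR1] at hsR
  have hdR : n R = 1 ∧ d R = p ∧ ∀ χ, χ ≠ R → n χ = 0 := by
    have h1 : p ≤ d R := Nat.le_of_dvd (hdpos R) (hndiv R hnR)
    have h2 : 1 * d R ≤ n R * d R := Nat.mul_le_mul_right _ (by omega)
    refine ⟨?_, by omega, fun χ hχ => ?_⟩
    · by_contra h
      have : 2 * d R ≤ n R * d R := Nat.mul_le_mul_right _ (by omega)
      omega
    · by_contra h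
      have hle' := Finset.single_le_sum (f := fun η => n η * d η) (fun _ _ => Nat.zero_le _)
        (Finset.mem_erase.mpr ⟨hχ, Finset.mem_univ χ⟩)
      have : 1 * d χ ≤ n χ * d χ := Nat.mul_le_mul_right _ (by omega)
      have := hdpos χ
      omega
  obtain ⟨hnR1, hdRp, hother⟩ := hdR
  have hRL : R ∉ L := fun h => hnR (if_pos (Or.inr h))
  have hRo : R ≠ o := fun h => hnR (if_pos (Or.inl h))
  have hmR : m R = 1 := by
    have := hnR1
    simp only [hn, if_neg (not_or.mpr ⟨hRo, hRL⟩)] at this
    exact this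
  have hmval : ∀ χ, m χ = if χ = o ∨ χ = R ∨ χ ∈ L then 1 else 0 := by
    intro χ
    by_cases h1 : χ = o
    · rw [if_pos (Or.inl h1), h1, hmo]
    by_cases h2 : χ = R
    · rw [if_pos (Or.inr (Or.inl h2)), h2, hmR]
    by_cases h3 : χ ∈ L
    · rw [if_pos (Or.inr (Or.inr h3)), hLm χ h3]
    rw [if_neg (by tauto)]
    have := hother χ h2
    simpa [hn, h1, h3] using this
  refine ⟨{
    v := v, ordv := hv, free := hfree, L := L, R := R, triv_not_mem := hLo, R_not_mem := hRL
    R_ne_triv := hRo, L_nonempty := hLne, perm := ?_, degL := ?_, degR := hdRp, valL := hLv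
    valR := fun i h0 hi => ?_, rank := fun a => ?_, not_normal := hnormal }⟩
  · rw [hm]
    exact Finset.sum_congr rfl fun χ _ => by rw [hmval χ]
  · have : ∑ χ ∈ L, (d χ : ℤ) + 1 = p := by exact_mod_cast hLd
    linarith
  · have h := hRv i h0 hi
    simp only [hRf] at h
    rw [Finset.sum_eq_single R (fun χ _ hχ => by rw [hother χ hχ, Nat.cast_zero, zero_mul])
      (fun h => absurd (Finset.mem_univ _) h), hnR1, Nat.cast_one, one_mul] at h
    exact h
  · rw [hrank a, Finset.sum_congr rfl fun χ _ => (by rw [hmval χ]; split_ifs <;> rfl :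
      m χ * m χ = if χ = o ∨ χ = R ∨ χ ∈ L then 1 else 0), Finset.sum_boole, Nat.cast_id,
      show (Finset.univ.filter fun χ => χ = o ∨ χ = R ∨ χ ∈ L) = insert o (insert R L) from
        Finset.ext fun χ => by simp,
      Finset.card_insert_of_notMem (by simp [Ne.symm hRo, hLo]), Finset.card_insert_of_notMem hRL]

end CfsgLib.DegreeTwoPrime
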