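import Cfsg.Agent.Lib.Perm.DegreeTwoPrime.Orbital
import Mathlib.GroupTheory.Nilpotent

/-!
# Wielandt's theorem on primitive groups of degree `2 p`
-/

set_option autoImplicit false
set_option linter.unusedSectionVars false
set_option linter.style.haveILetI false

namespace CfsgLib.DegreeTwoPrime

open Cfsg CfsgLib MulAction TraceAlgebra
open scoped ComplexConjugate CfsgLib.Char Matrix
open scoped _root_.Classical

universe u

variable {α : Type u} [Fintype α] [DecidableEq α] {p : ℕ} [Fact p.Prime]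
  {G : Subgroup (Equiv.Perm α)} [Fintype G] {D : Decomp (p := p) G}

namespace Decomp

/-- No other point has the stabiliser of a given point. -/
theorem suborbit_ne_one (hp : 2 < p) (hα : Fintype.card α = 2 * p) (hprim : IsPreprimitive G α)
    (D : Decomp (p := p) G) {a b : α} (hab : b ≠ a) :
    Nat.card (orbit (stabilizer G a) b) ≠ 1 := by
  intro h1
  haveI : IsPretransitive G α := hprim.toIsPretransitive
  haveI : Nontrivial α := ⟨⟨b, a, hab⟩⟩
  have hle : stabilizer G a ≤ stabilizer G b := by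
    intro g hg
    obtain ⟨hs, -⟩ := Nat.card_eq_one_iff_unique.mp h1
    exact mem_stabilizer_iff.mpr
      (congrArg Subtype.val (hs.elim ⟨_, ⟨⟨g, hg⟩, rfl⟩⟩ ⟨b, mem_orbit_self b⟩))
  have hco := (isCoatom_stabilizer_iff_preprimitive G a).mpr hprim
  have heq : stabilizer G b = stabilizer G a := by
    rcases hle.eq_or_lt with h | h
    · exact h.symm
    · exact absurd (hco.2 _ h) ((isCoatom_stabilizer_iff_preprimitive G b).mpr hprim).1
  obtain ⟨g, hg⟩ := exists_smul_eq G a b
  have hnorm : g ∈ Subgroup.normalizer (stabilizer G a : Set G) := by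
    refine Subgroup.mem_normalizer_iff.mpr fun y => ?_
    conv_rhs => rw [← heq]
    simp only [mem_stabilizer_iff, ← hg, mul_smul, inv_smul_smul, smul_left_cancel_iff]
  have htop : Subgroup.normalizer (stabilizer G a : Set G) = ⊤ :=
    hco.2 _ ((Subgroup.le_normalizer).lt_of_ne fun e => hab (by
      have : g ∈ stabilizer G a := e.symm ▸ hnorm
      rw [← hg]; exact mem_stabilizer_iff.mp this))
  have hnormal : (stabilizer G a).Normal := Subgroup.normalizer_eq_top_iff.mp htop
  have hbot : stabilizer G a = ⊥ := by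
    by_contra hne
    have hfix : fixedPoints (stabilizer G a) α ≠ Set.univ := fun e => hne <|
      (Subgroup.eq_bot_iff_forall _).mpr fun g hg => PMinusTwo.TwoP.eq_one_of_smul fun x => by
        have hx : x ∈ fixedPoints (stabilizer G a) α := e ▸ Set.mem_univ x
        exact hx ⟨g, hg⟩
    haveI := hnormal
    haveI := IsQuasiPreprimitive.isPretransitive_of_normal (N := stabilizer G a) hfix
    obtain ⟨⟨s, hs⟩, hsb⟩ := exists_smul_eq (stabilizer G a) a b
    exact hab (hsb.symm.trans hs)
  have hcard : Nat.card G = 2 * p := by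
    rw [← hα, ← Nat.card_eq_fintype_card (α := α), ← index_stabilizer_of_transitive G a, hbot,
      Subgroup.index_bot]
  have hz : Nat.card (Subgroup.zpowers D.v) = p := by rw [Nat.card_zpowers, D.ordv]
  have hidx : (Subgroup.zpowers D.v).index = 2 := by
    have h := (Subgroup.zpowers D.v).card_mul_index
    rw [hz, hcard, mul_comm 2 p] at h
    exact Nat.eq_of_mul_eq_mul_left (Fact.out : p.Prime).pos h
  have hd := D.not_normal _ (Subgroup.normal_of_index_eq_two hidx) (fun e => by
    rw [e, Subgroup.card_bot] at hz; omega)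
  rw [hz] at hd
  have := Nat.le_of_dvd (by omega) hd
  omega

/-- Every pair on a `v`-orbit lies in some orbital. -/
theorem exists_class [IsPretransitive G α] (a : α) {x y : α} (h : y ≠ x) :
    ∃ b, b ≠ a ∧ ∃ g : G, g • a = x ∧ g • b = y := by
  obtain ⟨g, hg⟩ := exists_smul_eq G a x
  exact ⟨g⁻¹ • y, fun e => h (by rw [← hg, ← e, smul_inv_smul]), g, hg, smul_inv_smul g y⟩

theorem orbital_congr {a b b' x y : α} (hb : b' ∈ orbit (stabilizer G a) b) :
    (∃ g : G, g • a = x ∧ g • b' = y) → ∃ g : G, g • a = x ∧ g • b = y := by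
  rintro ⟨g, h1, h2⟩
  obtain ⟨⟨s, hs⟩, hsb⟩ := hb
  refine ⟨g * s, by rw [mul_smul, mem_stabilizer_iff.mp hs, h1], ?_⟩
  rw [mul_smul, ← h2]
  exact congrArg (g • ·) hsb

/-- The case of a single family member. -/
theorem rank_three_case (hp : 2 < p) (hα : Fintype.card α = 2 * p) (hprim : IsPreprimitive G α)
    (D : Decomp (p := p) G) (hL : D.L.card = 1) {a b : α} (hab : b ≠ a) :
    ∃ t : ℕ, 0 < t ∧ p = 2 * t ^ 2 + 2 * t + 1 ∧
      (Nat.card (orbit (stabilizer G a) b) = t * (2 * t + 1) ∨
        Nat.card (orbit (stabilizer G a) b) = (t + 1) * (2 * t + 1)) := by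
  haveI : IsPretransitive G α := hprim.toIsPretransitive
  obtain ⟨B⟩ := D.exists_base hα
  obtain ⟨χ, hχ⟩ := Finset.card_eq_one.mp hL
  set k := Nat.card (orbit (stabilizer G a) b) with hk
  have hkne := suborbit_ne_one hp hα hprim D hab
  have hk0 : 0 < k := by
    haveI : Nonempty (orbit (stabilizer G a) b) := ⟨⟨b, mem_orbit_self b⟩⟩
    exact Nat.card_pos
  have hle : k + 2 < 2 * p := by
    have hr := D.rank a
    rw [hL] at hr
    obtain ⟨b', hb'a, hb'⟩ : ∃ b', b' ≠ a ∧ b' ∉ orbit (stabilizer G a) b := by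
      by_contra hcon
      push Not at hcon
      have hsub : (Finset.univ : Finset (orbitRel.Quotient (stabilizer G a) α)) ⊆
          {Quotient.mk'' a, Quotient.mk'' b} := by
        intro q _
        induction q using Quotient.inductionOn' with
        | h y =>
          rcases eq_or_ne y a with rfl | hy
          · simp
          · rw [Finset.mem_insert, Finset.mem_singleton]
            exact Or.inr (Quotient.eq''.mpr (hcon y hy))
      have hc := (Finset.card_le_card hsub).trans Finset.card_le_two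
      rw [Finset.card_univ, ← Nat.card_eq_fintype_card] at hc
      omega
    have hk' : 2 ≤ Nat.card (orbit (stabilizer G a) b') := by
      have := suborbit_ne_one hp hα hprim D hb'a
      haveI : Nonempty (orbit (stabilizer G a) b') := ⟨⟨b', mem_orbit_self b'⟩⟩
      have : 0 < Nat.card (orbit (stabilizer G a) b') := Nat.card_pos
      omega
    have hsub : (orbit (stabilizer G a) b ∪ orbit (stabilizer G a) b') ⊆ {a}ᶜ := by
      rintro y (hy | hy) rfl <;> obtain ⟨⟨s, hs⟩, hsy⟩ := hy
      · exact hab (smul_left_cancel s (hsy.trans (mem_stabilizer_iff.mp hs).symm))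
      · exact hb'a (smul_left_cancel s (hsy.trans (mem_stabilizer_iff.mp hs).symm))
    have hdis : Disjoint (orbit (stabilizer G a) b) (orbit (stabilizer G a) b') := by
      rw [Set.disjoint_left]
      intro y hy hy'
      exact hb' ((orbit_eq_iff.mpr hy).symm.trans (orbit_eq_iff.mpr hy') ▸ mem_orbit_self b')
    have h := Set.ncard_le_ncard hsub
    rw [Set.ncard_union_eq hdis, Set.ncard_compl, Set.ncard_singleton, ← Nat.card_coe_set_eq,
      ← Nat.card_coe_set_eq, Nat.card_eq_fintype_card (α := α), hα] at h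
    omega
  set c := cnt B a b 1 with hc
  have hconst : ∀ z : ZMod p, z ≠ 0 → cnt B a b z = c := by
    intro z hz
    have h1 := tr_orb_shift B hα hab z
    have h2 := tr_orb_shift B hα hab 1
    have hval : ∀ y : ZMod p, y ≠ 0 → (χ : G → ℂ) (D.w y) = -1 := fun y hy => by
      have := D.L_w hy
      rwa [hχ, Finset.sum_singleton] at this
    rw [if_neg hz, add_zero, F, hχ, Finset.sum_singleton, hval z hz] at h1
    rw [if_neg one_ne_zero, add_zero, F, hχ, Finset.sum_singleton, hval 1 one_ne_zero] at h2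
    exact_mod_cast mul_left_cancel₀ (Nat.cast_ne_zero.mpr (Fact.out : p.Prime).ne_zero) (h1.trans h2.symm)
  have hc2 : c ≤ 2 := by
    rw [hc, cnt]; split_ifs <;> omega
  have hs : ∀ g : ℕ → ℤ, g 0 = 0 → ∑ z : ZMod p, g (cnt B a b z) = ((p : ℤ) - 1) * g c := by
    intro g hg
    rw [← Finset.add_sum_erase _ _ (Finset.mem_univ (0 : ZMod p)), cnt_zero B hab, hg, zero_add,
      Finset.sum_congr rfl fun z hz => by rw [hconst z (Finset.mem_erase.mp hz).1], Finset.sum_const,
      Finset.card_erase_of_mem (Finset.mem_univ _), Finset.card_univ, ZMod.card, nsmul_eq_mul,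
      Nat.cast_sub (Fact.out : p.Prime).one_le, Nat.cast_one]
  have hid := identity B hα hab hab
  rw [if_pos (mem_orbit_self b), hs (fun n => (n : ℤ) * n) (by simp), hs (fun n => (n : ℤ)) (by simp),
    ← hk] at hid
  interval_cases c
  · exfalso
    push_cast at hid
    have : (k : ℤ) * ((k : ℤ) - 1) = 0 := by linarith
    rcases mul_eq_zero.mp this with h | h <;> omega
  · push_cast at hid
    set r : ℤ := ((p : ℤ) - 1) - k with hr
    have hpr : (p : ℤ) = 2 * r ^ 2 + 2 * r + 1 := by
      rw [show ((p : ℤ) - 1) * 1 - k = r by rw [hr]; ring] at hid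
      linarith [show (k : ℤ) = p - 1 - r by rw [hr]; ring, show r ^ 2 = r * r from pow_two r]
    have hkr : (k : ℤ) = r * (2 * r + 1) := by
      linarith [show (k : ℤ) = p - 1 - r by rw [hr]; ring,
        show r * (2 * r + 1) = 2 * r ^ 2 + r by ring]
    rcases lt_trichotomy r 0 with h | h | h
    · obtain ⟨t, ht⟩ : ∃ t : ℕ, r = -((t : ℤ) + 1) := ⟨(-r - 1).toNat, by omega⟩
      have hpt : (p : ℤ) = ((2 * t ^ 2 + 2 * t + 1 : ℕ) : ℤ) := by rw [hpr, ht]; push_cast; ring
      refine ⟨t, Nat.pos_of_ne_zero fun h0 => ?_, by exact_mod_cast hpt, Or.inr ?_⟩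
      · rw [h0] at hpt; norm_num at hpt; omega
      · have : (k : ℤ) = (((t + 1) * (2 * t + 1) : ℕ) : ℤ) := by rw [hkr, ht]; push_cast; ring
        exact_mod_cast this
    · rw [h] at hpr; norm_num at hpr; omega
    · obtain ⟨t, ht⟩ : ∃ t : ℕ, r = (t : ℤ) := ⟨r.toNat, by omega⟩
      have hpt : (p : ℤ) = ((2 * t ^ 2 + 2 * t + 1 : ℕ) : ℤ) := by rw [hpr, ht]; push_cast; ring
      refine ⟨t, by omega, by exact_mod_cast hpt, Or.inl ?_⟩
      have : (k : ℤ) = ((t * (2 * t + 1) : ℕ) : ℤ) := by rw [hkr, ht]; push_cast; ring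
      exact_mod_cast this
  · exfalso
    push_cast at hid
    set r : ℤ := ((p : ℤ) - 1) * 2 - k with hr
    have h0 : r * (r + 1) = 0 := by nlinarith [hid, show (k : ℤ) = ((p : ℤ) - 1) * 2 - r by rw [hr]; ring]
    rcases mul_eq_zero.mp h0 with h | h <;> omega

/-- A product of the factors `1 - M / μ`. -/
theorem exists_killer {M : Matrix α α ℂ} (hM : Inv G M) (s : Finset (IrrCharacter G)) :
    ∃ E : Matrix α α ℂ, Inv G E ∧ ∀ ψ : IrrCharacter G, D.mult ψ ≠ 0 →
      ev E ψ = ∏ φ ∈ s, (1 - (ev M φ)⁻¹ * ev M ψ) := by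
  induction s using Finset.induction_on with
  | empty =>
    refine ⟨1, Inv.one, fun ψ h => ?_⟩
    rw [ev_one D.mult_perm D.mult_le_one, Finset.prod_empty]
    have := D.mult_le_one ψ
    rw [show D.mult ψ = 1 by omega, Nat.cast_one]
  | insert φ s hφ ih =>
    obtain ⟨E, hE, hev⟩ := ih
    refine ⟨(1 - (ev M φ)⁻¹ • M) * E, Inv.mul (Inv.one.sub (hM.smul _)) hE, fun ψ h => ?_⟩
    rw [ev_mul D.mult_perm D.mult_le_one (Inv.one.sub (hM.smul _)) hE, hev ψ h, Finset.prod_insert hφ,
      ev_sub, ev_smul, ev_one D.mult_perm D.mult_le_one]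
    have := D.mult_le_one ψ
    rw [show D.mult ψ = 1 by omega, Nat.cast_one]

/-- More family members are impossible. -/
theorem large_case (hp : 2 < p) (hα : Fintype.card α = 2 * p) (hprim : IsPreprimitive G α)
    (D : Decomp (p := p) G) (hL : 2 ≤ D.L.card) (a : α) : False := by
  haveI : IsPretransitive G α := hprim.toIsPretransitive
  obtain ⟨B⟩ := D.exists_base hα
  have hp0 : (p : ℂ) ≠ 0 := Nat.cast_ne_zero.mpr (Fact.out : p.Prime).ne_zero
  -- three classes, one of which has `r = 0`
  set o : orbitRel.Quotient (stabilizer G a) α := Quotient.mk'' a with ho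
  have hr := D.rank a
  rw [Nat.card_eq_fintype_card] at hr
  obtain ⟨q₁, q₂, q₃, h1, h2, h3, h12, h13, h23⟩ := Finset.two_lt_card_iff.mp
    (show 2 < (Finset.univ.erase o).card by
      rw [Finset.card_erase_of_mem (Finset.mem_univ _), Finset.card_univ]; omega)
  have hout : ∀ q : orbitRel.Quotient (stabilizer G a) α, q ≠ o → q.out ≠ a := fun q hq e =>
    hq (by rw [ho, ← Quotient.out_eq' q, e])
  have hdiff : ∀ q q' : orbitRel.Quotient (stabilizer G a) α, q ≠ q' →
      q'.out ∉ orbit (stabilizer G a) q.out := fun q q' hne hmem => hne (by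
    rw [← Quotient.out_eq' q, ← Quotient.out_eq' q']
    exact (Quotient.eq''.mpr hmem).symm)
  set R : α → ℤ := fun b => (∑ z : ZMod p, (cnt B a b z : ℤ)) - Nat.card (orbit (stabilizer G a) b) with hR
  have hneg : ∀ b b' : α, b ≠ a → b' ≠ a → b' ∉ orbit (stabilizer G a) b → R b * R b' ≤ 0 := by
    intro b b' hb hb' hne
    have h := identity B hα hb hb'
    rw [if_neg hne] at h
    have h0 : 0 ≤ ∑ z : ZMod p, (cnt B a b z : ℤ) * cnt B a b' z :=
      Finset.sum_nonneg fun _ _ => by positivity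
    simp only [hR]
    nlinarith [h, h0]
  have e1 := hout q₁ (Finset.mem_erase.mp h1).1
  have e2 := hout q₂ (Finset.mem_erase.mp h2).1
  have e3 := hout q₃ (Finset.mem_erase.mp h3).1
  obtain ⟨b, hb, hRb⟩ : ∃ b, b ≠ a ∧ R b = 0 := by
    by_contra hcon
    push Not at hcon
    have n1 := hcon _ e1
    have n2 := hcon _ e2
    have n3 := hcon _ e3
    have p12 := hneg _ _ e1 e2 (hdiff _ _ h12)
    have p13 := hneg _ _ e1 e3 (hdiff _ _ h13)
    have p23 := hneg _ _ e2 e3 (hdiff _ _ h23)
    rcases lt_or_gt_of_ne n1 with s1 | s1 <;> rcases lt_or_gt_of_ne n2 with s2 | s2 <;>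
      rcases lt_or_gt_of_ne n3 with s3 | s3 <;> nlinarith
  set k := Nat.card (orbit (stabilizer G a) b) with hk
  have hk0 : 0 < k := by
    haveI : Nonempty (orbit (stabilizer G a) b) := ⟨⟨b, mem_orbit_self b⟩⟩
    exact Nat.card_pos
  set M := orbMatrix G a b with hMdef
  have hM : Inv G M := inv_orbMatrix a b
  -- the two halves agree
  let P : α → ZMod p → Prop := fun x z => ∃ g : G, g • a = x ∧ g • b = D.w z • x
  have hexcl : ∀ b', b' ≠ a → b' ∉ orbit (stabilizer G a) b → ∀ z : ZMod p,
      cnt B a b z = 0 ∨ cnt B a b' z = 0 := by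
    intro b' hb' hne z
    have h := identity B hα hb hb'
    rw [if_neg hne, show (∑ z : ZMod p, (cnt B a b z : ℤ)) - Nat.card (orbit (stabilizer G a) b) = 0 from hRb]
      at h
    simp only [mul_zero, zero_mul, sub_zero] at h
    have := (Finset.sum_eq_zero_iff_of_nonneg fun _ _ => by positivity).mp h z (Finset.mem_univ _)
    rcases mul_eq_zero.mp this with h | h
    · exact Or.inl (by exact_mod_cast h)
    · exact Or.inr (by exact_mod_cast h)
  have hhalf : ∀ z : ZMod p, (P B.x₁ z ↔ P B.x₂ z) := by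
    intro z
    rcases eq_or_ne z 0 with rfl | hz
    · have := cnt_zero B hb
      rw [cnt] at this
      constructor <;> intro h <;> exfalso <;> rw [if_pos h] at this <;> omega
    have main : ∀ x x' : α, (x = B.x₁ ∧ x' = B.x₂ ∨ x = B.x₂ ∧ x' = B.x₁) → P x z → P x' z := by
      intro x x' hx hP
      by_contra hP'
      obtain ⟨b', hb', hg⟩ := exists_class (G := G) a (D.w_smul_ne hz x')
      have hne : b' ∉ orbit (stabilizer G a) b := fun hmem => hP' (orbital_congr hmem hg)
      rcases hexcl b' hb' hne z with h | h <;> rw [cnt] at h <;> rcases hx with ⟨r1, r2⟩ | ⟨r1, r2⟩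
      · rw [if_pos (show _ from r1 ▸ hP)] at h; omega
      · rw [if_pos (show ∃ g : G, g • a = B.x₂ ∧ g • b = D.w z • B.x₂ from r1 ▸ hP)] at h; omega
      · rw [if_pos (show ∃ g : G, g • a = B.x₂ ∧ g • b' = D.w z • B.x₂ from r2 ▸ hg)] at h; omega
      · rw [if_pos (show ∃ g : G, g • a = B.x₁ ∧ g • b' = D.w z • B.x₁ from r2 ▸ hg)] at h; omega
    exact ⟨main _ _ (Or.inl ⟨rfl, rfl⟩), main _ _ (Or.inr ⟨rfl, rfl⟩)⟩
  set A : ZMod p → ℕ := fun z => if P B.x₁ z then 1 else 0 with hA
  have hA1 : ∀ z, (A z : ℂ) = M B.x₁ (D.w z • B.x₁) := fun z => by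
    simp only [hA, hMdef, orbMatrix, P]
    split_ifs <;> simp
  have hA2 : ∀ z, (A z : ℂ) = M B.x₂ (D.w z • B.x₂) := fun z => by
    simp only [hA, hMdef, orbMatrix]
    have hh := hhalf z
    by_cases h : P B.x₁ z
    · rw [if_pos h, if_pos (hh.mp h)]; simp
    · rw [if_neg h, if_neg (fun e => h (hh.mpr e))]; simp
  have hcnt : ∀ z, (cnt B a b z : ℂ) = 2 * (A z : ℂ) := fun z => by
    rw [cnt_cast, ← hMdef, ← hA1, ← hA2]; ring
  have hA0 : A 0 = 0 := by
    have := hcnt 0
    rw [cnt_zero B hb, Nat.cast_zero] at this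
    exact_mod_cast (mul_eq_zero.mp this.symm).resolve_left two_ne_zero
  have hevR : ev M D.R = 0 := by
    have h : ((R b : ℤ) : ℂ) = 0 := by rw [hRb, Int.cast_zero]
    rw [ev_R_eq B hα hb, ← h, hR]
    push_cast
    rfl
  obtain ⟨z₀, hz₀⟩ : ∃ z, A z ≠ 0 := by
    by_contra hcon
    push Not at hcon
    have h := ev_R_eq B hα hb
    rw [← hMdef, hevR, Finset.sum_eq_zero fun z _ => by rw [hcnt z, hcon z, Nat.cast_zero, mul_zero],
      zero_sub, zero_eq_neg] at h
    rw [← hk] at h
    exact hk0.ne' (by exact_mod_cast h)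
  have hevo : ev M (Blocks.trivIrr G) = (k : ℂ) := ev_orb_triv hα a b
  have hlam : ∀ χ ∈ D.L, ev M χ ≠ 0 := by
    intro χ hχ
    obtain ⟨j, hj, hN, hN'⟩ := D.exists_j hχ
    have h : ∑ z : ZMod p, D.F M z * echar j z =
        (p : ℂ) * (2 * ∑ z : ZMod p, (A z : ℂ) * echar j z) := by
      rw [Finset.mul_sum, Finset.mul_sum]
      refine Finset.sum_congr rfl fun z _ => ?_
      rw [hMdef, ← tr_orb_shift B hα hb, ← hMdef, hevR, mul_zero, ite_self, add_zero, hcnt z]
      ring
    simp only [F, add_mul, Finset.sum_add_distrib, Finset.sum_mul] at h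
    rw [← Finset.mul_sum, show ∑ z : ZMod p, echar j z = 0 by
        rw [Finset.sum_congr rfl fun z _ => echar_comm j z, sum_echar, if_neg hj],
      mul_zero, zero_add, Finset.sum_comm, Finset.sum_eq_single χ] at h
    · simp only [mul_assoc, ← Finset.mul_sum, D.N_spec, hN, Nat.cast_one, mul_one] at h
      intro e
      rw [e, zero_mul] at h
      exact sum_indicator_ne_zero A hA0 hz₀ j
        ((mul_eq_zero.mp ((mul_eq_zero.mp h.symm).resolve_left hp0)).resolve_left two_ne_zero)
    · intro φ hφ hne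
      simp only [mul_assoc, ← Finset.mul_sum, D.N_spec, hN' φ hφ hne, Nat.cast_zero, mul_zero]
    · exact fun h => absurd hχ h
  -- the idempotent of the remaining character
  set s := insert (Blocks.trivIrr G) D.L with hs
  obtain ⟨E, hE, hevE⟩ := exists_killer (D := D) hM s
  have hs0 : ∀ φ ∈ s, ev M φ ≠ 0 := fun φ hφ => by
    rcases Finset.mem_insert.mp hφ with rfl | h
    · rw [hevo]; exact_mod_cast hk0.ne'
    · exact hlam φ h
  have hEs : ∀ φ ∈ s, ev E φ = 0 := fun φ hφ => by
    have hm : D.mult φ ≠ 0 := by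
      rw [Decomp.mult, if_pos]
      · norm_num
      · rcases Finset.mem_insert.mp hφ with rfl | h
        · exact Or.inl rfl
        · exact Or.inr (Or.inr h)
    rw [hevE φ hm]
    exact Finset.prod_eq_zero hφ (by rw [inv_mul_cancel₀ (hs0 φ hφ), sub_self])
  have hER : ev E D.R = 1 := by
    rw [hevE _ (by rw [Decomp.mult, if_pos (Or.inr (Or.inl rfl))]; norm_num)]
    exact Finset.prod_eq_one fun φ _ => by rw [hevR, mul_zero, sub_zero]
  have hprod0 : ∀ ψ, D.mult ψ ≠ 0 → ev E ψ * ev M ψ = 0 := fun ψ hψ => by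
    rcases D.mult_ne_zero hψ with rfl | rfl | h
    · rw [hEs _ (Finset.mem_insert_self _ _), zero_mul]
    · rw [hevR, mul_zero]
    · rw [hEs _ (Finset.mem_insert_of_mem h), zero_mul]
  have hEM : E * M = 0 := eq_zero D.mult_perm D.mult_le_one (Inv.mul hE hM) fun ψ hψ => by
    rw [ev_mul D.mult_perm D.mult_le_one hE hM]; exact hprod0 ψ hψ
  have hME : M * E = 0 := by rw [comm D.mult_perm D.mult_le_one hM hE]; exact hEM
  set d₁ : ZMod p → ℂ := fun z => E B.x₁ (D.w z • B.x₁) with hd₁
  set d₂ : ZMod p → ℂ := fun z => E B.x₂ (D.w z • B.x₂) with hd₂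
  have hsumd : ∀ z : ZMod p, d₁ z + d₂ z = if z = 0 then 1 else 0 := by
    intro z
    refine mul_left_cancel₀ hp0 ?_
    rw [← B.tr_w hα hE z, D.tr_expand hE, hER, hEs _ (Finset.mem_insert_self _ _),
      Finset.sum_eq_zero fun χ hχ => by rw [hEs χ (Finset.mem_insert_of_mem hχ), zero_mul]]
    rcases eq_or_ne z 0 with rfl | hz
    · rw [if_pos rfl, D.w_zero, (Blocks.irr_degree_eq D.R).1, D.degR]; ring
    · rw [if_neg hz, D.R_w hz]; ring
  have hdiag : ∀ x : α, E x x = E B.x₁ B.x₁ := fun x => by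
    obtain ⟨g, rfl⟩ := exists_smul_eq G B.x₁ x
    exact hE g _ _
  set f : ZMod p → ℂ := fun z => d₁ z - d₂ z with hf
  have hconv : ∀ n : ZMod p, ∑ m : ZMod p, (A (n - m) : ℂ) * f m = 0 := by
    intro n
    have h1 : (E * M) B.x₁ (D.w n • B.x₁) = 0 := by rw [hEM]; rfl
    have h2 : (M * E) B.x₂ (D.w n • B.x₂) = 0 := by rw [hME]; rfl
    rw [Matrix.mul_apply, B.sum_split hα] at h1 h2
    simp only [inv_pair hM, inv_pair hE] at h1 h2
    simp only [← hA1, ← hA2] at h1 h2
    rw [← Equiv.sum_comp (Equiv.subLeft n)] at h2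
    conv at h2 => lhs; arg 2; rw [← Equiv.sum_comp (Equiv.subLeft n)]
    simp only [Equiv.subLeft_apply, sub_sub_cancel] at h2
    simp only [hf, mul_sub, Finset.sum_sub_distrib, hd₁, hd₂]
    have h3 : ∑ m : ZMod p, M B.x₂ (D.w (n - m) • B.x₁) * E B.x₁ (D.w m • B.x₂) =
        ∑ m : ZMod p, E B.x₁ (D.w m • B.x₂) * M B.x₂ (D.w (n - m) • B.x₁) :=
      Finset.sum_congr rfl fun m _ => mul_comm _ _
    have h4 : ∑ m : ZMod p, E B.x₁ (D.w m • B.x₁) * (A (n - m) : ℂ) =
        ∑ m : ZMod p, (A (n - m) : ℂ) * E B.x₁ (D.w m • B.x₁) :=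
      Finset.sum_congr rfl fun m _ => mul_comm _ _
    rw [h3] at h2
    rw [h4] at h1
    linear_combination h1 - h2
  have hfhat : ∀ j : ZMod p, ∑ z : ZMod p, f z * echar j z = 0 := by
    intro j
    have h : (∑ z : ZMod p, (A z : ℂ) * echar j z) * ∑ z : ZMod p, f z * echar j z = 0 := by
      rw [Finset.sum_mul_sum, Finset.sum_comm]
      rw [Finset.sum_congr rfl (g := fun m => ∑ n : ZMod p, echar j n * ((A (n - m) : ℂ) * f m)) fun m _ => by
        refine Fintype.sum_equiv (Equiv.addRight m) _ _ fun x => ?_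
        rw [Equiv.coe_addRight, add_sub_cancel_right, echar_add]
        ring, Finset.sum_comm]
      refine Finset.sum_eq_zero fun n _ => ?_
      rw [← Finset.mul_sum, hconv n, mul_zero]
    exact (mul_eq_zero.mp h).resolve_left (sum_indicator_ne_zero A hA0 hz₀ j)
  have hf0 : ∀ z, f z = 0 := fun z => by
    have h := inversion f z
    simp only [hfhat, mul_zero, Finset.sum_const_zero] at h
    exact (mul_eq_zero.mp h.symm).resolve_left hp0
  have hd : ∀ z : ZMod p, d₁ z = (if z = 0 then 1 else 0) / 2 ∧ d₂ z = (if z = 0 then 1 else 0) / 2 := by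
    intro z
    have h1 : d₁ z - d₂ z = 0 := hf0 z
    have h2 := hsumd z
    constructor
    · linear_combination (1 / 2 : ℂ) * h2 + (1 / 2 : ℂ) * h1
    · linear_combination (1 / 2 : ℂ) * h2 - (1 / 2 : ℂ) * h1
  have hoff : ∀ y : α, y ≠ a → E a y = 0 := by
    intro y hy
    obtain ⟨z, hz⟩ : ∃ z, cnt B a y z ≠ 0 := by
      by_contra hcon
      push Not at hcon
      have h := identity B hα hy hy
      rw [if_pos (mem_orbit_self y), Finset.sum_eq_zero (fun z _ => by rw [hcon z]; simp),
        Finset.sum_eq_zero (fun z _ => by rw [hcon z]; simp)] at h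
      set k' := Nat.card (orbit (stabilizer G a) y) with hk'
      have hne := suborbit_ne_one hp hα hprim D hy
      have : 0 < k' := by
        haveI : Nonempty (orbit (stabilizer G a) y) := ⟨⟨y, mem_orbit_self y⟩⟩
        exact Nat.card_pos
      have : (k' : ℤ) * ((k' : ℤ) - 1) = 0 := by linarith
      rcases mul_eq_zero.mp this with h | h <;> omega
    have hz0 : z ≠ 0 := fun e => hz (e ▸ cnt_zero B hy)
    rw [cnt] at hz
    by_cases h1 : ∃ g : G, g • a = B.x₁ ∧ g • y = D.w z • B.x₁
    · obtain ⟨g, g1, g2⟩ := h1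
      have := (hd z).1
      rw [if_neg hz0, zero_div, hd₁] at this
      rw [← hE g a y, g1, g2]
      exact this
    · rw [if_neg h1] at hz
      obtain ⟨g, g1, g2⟩ : ∃ g : G, g • a = B.x₂ ∧ g • y = D.w z • B.x₂ := by
        by_contra h2
        rw [if_neg h2] at hz
        exact hz rfl
      have := (hd z).2
      rw [if_neg hz0, zero_div, hd₂] at this
      rw [← hE g a y, g1, g2]
      exact this
  have hrow : ev E (Blocks.trivIrr G) = E a a := by
    rw [ev_triv hE a, Finset.sum_eq_single a (fun y _ hy => hoff y hy) fun h => absurd (Finset.mem_univ _) h]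
  rw [hEs _ (Finset.mem_insert_self _ _), hdiag a] at hrow
  have h0 := (hd 0).1
  rw [if_pos rfl, hd₁] at h0
  simp only [D.w_zero, one_smul] at h0
  rw [← hrow] at h0
  norm_num at h0

end Decomp

/-- Degree four. -/
theorem two_transitive_four {α : Type*} [Fintype α] [DecidableEq α] (hα : Fintype.card α = 4)
    (G : Subgroup (Equiv.Perm α)) (hprim : IsPreprimitive G α) : IsMultiplyPretransitive G α 2 := by
  haveI : IsPretransitive G α := hprim.toIsPretransitive
  haveI : Nontrivial α := Fintype.one_lt_card_iff_nontrivial.mp (by omega)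
  have x : α := Classical.arbitrary α
  haveI : Fact (Nat.Prime 2) := ⟨Nat.prime_two⟩
  haveI : Fact (Nat.Prime 3) := ⟨Nat.prime_three⟩
  have h24 : Nat.card G ∣ 24 := by
    have h := Subgroup.card_subgroup_dvd_card G
    rwa [Nat.card_perm, Nat.card_eq_fintype_card (α := α), hα] at h
  have h4 : 4 ∣ Nat.card G := by
    rw [← hα, ← Nat.card_eq_fintype_card (α := α), ← index_stabilizer_of_transitive G x]
    exact Subgroup.index_dvd_card _
  by_cases h3 : 3 ∣ Nat.card G
  · obtain ⟨g, hg⟩ := exists_prime_orderOf_dvd_card' 3 h3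
    have hgo : orderOf (g : Equiv.Perm α) = 3 := by rw [Subgroup.orderOf_coe, hg]
    obtain ⟨n, hn⟩ := Equiv.Perm.cycleType_prime_order (σ := (g : Equiv.Perm α)) (hgo.symm ▸ Nat.prime_three)
    rw [hgo] at hn
    have hs := (g : Equiv.Perm α).sum_cycleType
    rw [hn, Multiset.sum_replicate, smul_eq_mul] at hs
    have hle := Finset.card_le_univ (g : Equiv.Perm α).support
    rw [hα] at hle
    have hn0 : n = 0 := by omega
    subst hn0
    have hcyc : (g : Equiv.Perm α).IsCycle := by
      rw [← Equiv.Perm.card_cycleType_eq_one, hn]; simp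
    obtain ⟨y, hy⟩ : ∃ y, y ∉ (g : Equiv.Perm α).support := by
      by_contra hc
      push Not at hc
      rw [Finset.eq_univ_of_forall hc, Finset.card_univ, hα] at hs
      omega
    have hall : ∀ z : α, z ≠ y → (g : Equiv.Perm α) z ≠ z := by
      intro z hz e
      have hsub : (g : Equiv.Perm α).support ⊆ (Finset.univ.erase y).erase z := fun w hw => by
        simp only [Finset.mem_erase, Finset.mem_univ, and_true]
        exact ⟨fun h => Equiv.Perm.mem_support.mp hw (h ▸ e), fun h => hy (h ▸ hw)⟩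
      have := Finset.card_le_card hsub
      rw [Finset.card_erase_of_mem (Finset.mem_erase.mpr ⟨hz, Finset.mem_univ z⟩),
        Finset.card_erase_of_mem (Finset.mem_univ y), Finset.card_univ, hα] at this
      omega
    refine IsPreprimitive.is_two_pretransitive hprim (s := {y}) (n := 0) (Set.ncard_singleton y)
      (by rw [Nat.card_eq_fintype_card, hα]; norm_num) ⟨fun a b => ?_⟩
    have hfix : g ∈ fixingSubgroup G ({y} : Set α) := by
      refine (mem_fixingSubgroup_iff G).mpr fun w hw => ?_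
      rw [Set.mem_singleton_iff] at hw
      subst hw
      exact Equiv.Perm.notMem_support.mp hy
    have ha : (a : α) ≠ y := fun e => (SubMulAction.mem_ofFixingSubgroup_iff G).mp a.2 (by simp [e])
    have hb : (b : α) ≠ y := fun e => (SubMulAction.mem_ofFixingSubgroup_iff G).mp b.2 (by simp [e])
    obtain ⟨i, hi⟩ := hcyc.sameCycle (hall _ ha) (hall _ hb)
    refine ⟨⟨g ^ i, zpow_mem hfix i⟩, Subtype.ext ?_⟩
    show ((g ^ i : G) : Equiv.Perm α) (a : α) = b
    rw [Subgroup.coe_zpow]
    exact hi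
  · exfalso
    have hd : Nat.card G = 4 ∨ Nat.card G = 8 := by
      have := Nat.le_of_dvd (by norm_num) h24
      interval_cases h : Nat.card G <;> omega
    have hG : IsPGroup 2 G := by
      rcases hd with h | h
      · exact IsPGroup.of_card (n := 2) h
      · exact IsPGroup.of_card (n := 3) h
    haveI := hG.isNilpotent
    have hco := (isCoatom_stabilizer_iff_preprimitive G x).mpr hprim
    have hn : (stabilizer G x).Normal :=
      Subgroup.NormalizerCondition.normal_of_coatom _ Group.normalizerCondition_of_isNilpotent hco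
    have hbot : stabilizer G x = ⊥ := by
      by_contra hne
      haveI := hn
      have hfix : fixedPoints (stabilizer G x) α ≠ Set.univ := fun e => hne <|
        (Subgroup.eq_bot_iff_forall _).mpr fun g hg => PMinusTwo.TwoP.eq_one_of_smul fun z => by
          have hz : z ∈ fixedPoints (stabilizer G x) α := e ▸ Set.mem_univ z
          exact hz ⟨g, hg⟩
      haveI := IsQuasiPreprimitive.isPretransitive_of_normal (N := stabilizer G x) hfix
      obtain ⟨y, hy⟩ := exists_ne x
      obtain ⟨⟨s, hs⟩, hsy⟩ := exists_smul_eq (stabilizer G x) x y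
      exact hy (hsy.symm.trans hs)
    obtain ⟨u, hu⟩ := exists_prime_orderOf_dvd_card' (G := G) 2 ((show 2 ∣ 4 by norm_num).trans h4)
    have hlt : stabilizer G x < Subgroup.zpowers u := by
      rw [hbot, bot_lt_iff_ne_bot]
      intro e
      rw [Subgroup.zpowers_eq_bot] at e
      rw [e, orderOf_one] at hu
      norm_num at hu
    have := congrArg (fun K : Subgroup G => Nat.card K) (hco.2 _ hlt)
    simp only [Nat.card_zpowers, hu, Subgroup.card_top] at this
    omega

/-- Wielandt's theorem. -/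
theorem wielandt {α : Type*} [Fintype α] [DecidableEq α] {p : ℕ} (hp : p.Prime)
    (hα : Fintype.card α = 2 * p) (G : Subgroup (Equiv.Perm α)) (hG : IsPreprimitive G α) (a₀ : α) :
    IsMultiplyPretransitive G α 2 ∨ (Nat.card (orbitRel.Quotient (stabilizer G a₀) α) = 3 ∧
      ∃ a : ℕ, 0 < a ∧ p = 2 * a ^ 2 + 2 * a + 1 ∧ ∀ b : α, b ≠ a₀ →
        Nat.card (orbit (stabilizer G a₀) b) = a * (2 * a + 1) ∨
          Nat.card (orbit (stabilizer G a₀) b) = (a + 1) * (2 * a + 1)) := by
  haveI := Fact.mk hp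
  rcases Nat.lt_or_ge 2 p with h2 | h2
  swap
  · left
    have := hp.two_le
    exact two_transitive_four (by omega) G hG
  by_cases hnot2 : IsMultiplyPretransitive G α 2
  · exact Or.inl hnot2
  right
  letI : Fintype G := Fintype.ofFinite G
  obtain ⟨D⟩ := exists_decomp h2 hα hG hnot2
  have hL : D.L.card = 1 := by
    have := Finset.card_pos.mpr D.L_nonempty
    rcases Nat.lt_or_ge D.L.card 2 with h | h
    · omega
    · exact (Decomp.large_case h2 hα hG D h a₀).elim
  refine ⟨by rw [D.rank a₀, hL], ?_⟩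
  haveI : Nontrivial α := Fintype.one_lt_card_iff_nontrivial.mp (by omega)
  obtain ⟨b₀, hb₀⟩ := exists_ne a₀
  obtain ⟨t, ht, hpt, -⟩ := Decomp.rank_three_case h2 hα hG D hL hb₀
  refine ⟨t, ht, hpt, fun b hb => ?_⟩
  obtain ⟨t', -, hpt', hk⟩ := Decomp.rank_three_case h2 hα hG D hL hb
  have : t' = t := by
    rcases lt_trichotomy t' t with h | h | h
    · have := Nat.pow_le_pow_left h.le 2; omega
    · exact h
    · have := Nat.pow_le_pow_left h.le 2; omega
  subst this
  exact hk

end CfsgLib.DegreeTwoPrime
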