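import Cfsg.Agent.Lib.DihBlock.Columns

/-!
# Finite Fourier analysis on `ZMod p`
-/

set_option autoImplicit false
set_option linter.unusedSectionVars false

namespace CfsgLib.DegreeTwoPrime

open scoped ComplexConjugate

variable {p : ℕ} [Fact p.Prime]

/-- A root of unity of order `p`. -/
noncomputable def zeta (p : ℕ) : ℂ := Complex.exp (2 * Real.pi * Complex.I / p)

theorem zeta_spec : IsPrimitiveRoot (zeta p) p :=
  Complex.isPrimitiveRoot_exp p (Fact.out : p.Prime).ne_zero

/-- The characters of `ZMod p`. -/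
noncomputable def echar (j z : ZMod p) : ℂ := zeta p ^ (j * z).val

theorem zeta_pow_mod (i : ℕ) : zeta p ^ (i % p) = zeta p ^ i := by
  conv_rhs => rw [← Nat.mod_add_div i p, pow_add, pow_mul, zeta_spec.pow_eq_one, one_pow, mul_one]

theorem echar_add (j x y : ZMod p) : echar j (x + y) = echar j x * echar j y := by
  rw [echar, echar, echar, mul_add, ZMod.val_add, zeta_pow_mod, pow_add]

theorem echar_comm (j z : ZMod p) : echar j z = echar z j := by rw [echar, echar, mul_comm]

theorem echar_zero_right (j : ZMod p) : echar j 0 = 1 := by rw [echar, mul_zero, ZMod.val_zero, pow_zero]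

theorem echar_zero_left (z : ZMod p) : echar 0 z = 1 := by rw [echar_comm, echar_zero_right]

theorem echar_ne_zero (j z : ZMod p) : echar j z ≠ 0 :=
  pow_ne_zero _ (zeta_spec.ne_zero (Fact.out : p.Prime).ne_zero)

theorem echar_neg (j z : ZMod p) : echar j (-z) = conj (echar j z) := by
  have h : echar j z * echar j (-z) = 1 := by rw [← echar_add, add_neg_cancel, echar_zero_right]
  have h2 : echar j z * conj (echar j z) = 1 := by
    rw [Complex.mul_conj', echar, norm_pow, zeta_spec.norm'_eq_one (Fact.out : p.Prime).ne_zero]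
    norm_num
  exact mul_left_cancel₀ (echar_ne_zero j z) (h.trans h2.symm)

theorem sum_val (f : ℕ → ℂ) : ∑ z : ZMod p, f z.val = ∑ i ∈ Finset.range p, f i := by
  refine Finset.sum_nbij' (fun z => z.val) (fun i => (i : ZMod p)) (fun z _ => ?_) (fun _ _ => Finset.mem_univ _)
    (fun z _ => ZMod.natCast_zmod_val z) (fun i hi => ?_) (fun _ _ => rfl)
  · exact Finset.mem_range.mpr (ZMod.val_lt z)
  · exact ZMod.val_cast_of_lt (Finset.mem_range.mp hi)

theorem sum_echar (z : ZMod p) : ∑ j : ZMod p, echar j z = if z = 0 then (p : ℂ) else 0 := by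
  split_ifs with h
  · subst h
    simp [echar_zero_right, ZMod.card]
  · rw [Fintype.sum_equiv (Equiv.mulRight₀ z h) (fun j => echar j z) (fun y => zeta p ^ y.val)
      fun j => rfl, sum_val (fun i => zeta p ^ i)]
    exact zeta_spec.geom_sum_eq_zero (Fact.out : p.Prime).one_lt

theorem inversion (f : ZMod p → ℂ) (z : ZMod p) :
    ∑ j : ZMod p, echar j (-z) * ∑ x : ZMod p, f x * echar j x = (p : ℂ) * f z := by
  simp only [Finset.mul_sum]
  rw [Finset.sum_comm, Finset.sum_congr rfl (g := fun x => f x * if x - z = 0 then (p : ℂ) else 0)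
    fun x _ => by
      rw [← sum_echar, Finset.mul_sum]
      refine Finset.sum_congr rfl fun j _ => ?_
      rw [sub_eq_add_neg, echar_add]
      ring]
  rw [Finset.sum_eq_single z (fun x _ hx => by rw [if_neg (sub_ne_zero.mpr hx), mul_zero])
    (fun h => absurd (Finset.mem_univ _) h), if_pos (sub_self z)]
  ring

/-- A set of nonzero residues has nonzero Fourier coefficients. -/
theorem sum_indicator_ne_zero (a : ZMod p → ℕ) (h0 : a 0 = 0) {w : ZMod p} (hw : a w ≠ 0) (j : ZMod p) :
    ∑ z : ZMod p, (a z : ℂ) * echar j z ≠ 0 := by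
  intro h
  rcases eq_or_ne j 0 with rfl | hj
  · simp only [echar_zero_left, mul_one] at h
    have h' : ∑ z : ZMod p, a z = 0 := by exact_mod_cast h
    exact hw ((Finset.sum_eq_zero_iff.mp h') w (Finset.mem_univ _))
  have hp : p.Prime := Fact.out
  set b : ℕ → ℚ := fun i => (a ((i : ZMod p) * j⁻¹) : ℚ) with hb
  have hsum : ∑ i ∈ Finset.range p, (b i : ℂ) * zeta p ^ i = 0 := by
    rw [← sum_val (fun i => (b i : ℂ) * zeta p ^ i), ← h]
    symm
    refine Fintype.sum_equiv (Equiv.mulLeft₀ j hj) _ _ fun z => ?_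
    rw [Equiv.mulLeft₀_apply, hb]
    simp only [ZMod.natCast_zmod_val, Rat.cast_natCast]
    rw [mul_comm j z, mul_assoc, mul_inv_cancel₀ hj, mul_one, echar, mul_comm j z]
  have hgeom : ∑ i ∈ Finset.range p, zeta p ^ i = 0 := zeta_spec.geom_sum_eq_zero hp.one_lt
  have hps : p - 1 + 1 = p := Nat.sub_add_cancel hp.one_le
  have hred : ∑ i ∈ Finset.range (p - 1), ((b i - b (p - 1) : ℚ) : ℂ) * zeta p ^ i = 0 := by
    rw [show Finset.range p = Finset.range (p - 1 + 1) by rw [hps], Finset.sum_range_succ] at hsum hgeom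
    simp only [Rat.cast_sub, sub_mul, Finset.sum_sub_distrib, ← Finset.mul_sum]
    linear_combination hsum - (b (p - 1) : ℂ) * hgeom
  have hli := linearIndependent_pow (K := ℚ) (zeta p)
  rw [← Polynomial.cyclotomic_eq_minpoly_rat zeta_spec hp.pos, Polynomial.natDegree_cyclotomic,
    Nat.totient_prime hp] at hli
  have hz := Fintype.linearIndependent_iff.mp hli (fun i => b i - b (p - 1)) (by
    rw [← hred, ← Fin.sum_univ_eq_sum_range (fun i => ((b i - b (p - 1) : ℚ) : ℂ) * zeta p ^ i)]
    exact Finset.sum_congr rfl fun i _ => by rw [Rat.smul_def])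
  have hall : ∀ i < p, b i = b 0 := by
    intro i hi
    have h1 := hz ⟨0, by have := hp.two_le; omega⟩
    simp only at h1
    rcases Nat.lt_or_ge i (p - 1) with hlt | hge
    · have h2 := hz ⟨i, hlt⟩
      simp only at h2
      linarith
    · rw [show i = p - 1 by omega]
      linarith
  have h2 := hall (w * j).val (ZMod.val_lt _)
  simp only [hb, ZMod.natCast_zmod_val, Nat.cast_zero, zero_mul, h0, mul_assoc, mul_inv_cancel₀ hj,
    mul_one, Nat.cast_eq_zero] at h2
  exact hw h2

end CfsgLib.DegreeTwoPrime
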