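import Cfsg.Agent.Lib.Perm.DegreeTwoPrime.Decomp
import Cfsg.Agent.Lib.Perm.DegreeTwoPrime.Fourier
import Cfsg.Agent.Lib.Perm.TraceAlgebra

/-!
# Wielandt's theorem on primitive groups of degree `2 p`: the orbital matrices
-/

set_option autoImplicit false
set_option linter.unusedSectionVars false
set_option linter.style.haveILetI false

namespace CfsgLib.DegreeTwoPrime

open Cfsg CfsgLib MulAction TraceAlgebra
open scoped ComplexConjugate CfsgLib.Char Matrix
open scoped _root_.Classical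

universe u

variable {α : Type u} [Fintype α] [DecidableEq α] {p : ℕ} [Fact p.Prime]
  {G : Subgroup (Equiv.Perm α)} [Fintype G] (D : Decomp (p := p) G)

namespace Decomp

/-- The powers of `v`. -/
def w (z : ZMod p) : G := D.v ^ z.val

theorem v_pow_mod (i : ℕ) : D.v ^ (i % p) = D.v ^ i := by
  have h := pow_mod_orderOf D.v i
  rwa [D.ordv] at h

theorem w_add (a b : ZMod p) : D.w (a + b) = D.w a * D.w b := by
  rw [w, w, w, ZMod.val_add, D.v_pow_mod, pow_add]

theorem w_zero : D.w 0 = 1 := by rw [w, ZMod.val_zero, pow_zero]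

theorem w_smul_ne {z : ZMod p} (hz : z ≠ 0) (x : α) : D.w z • x ≠ x :=
  D.free _ x (Nat.pos_of_ne_zero fun h => hz ((ZMod.val_eq_zero z).mp h)) (ZMod.val_lt z)

theorem w_injective (x : α) : Function.Injective fun z : ZMod p => D.w z • x := by
  intro a b h
  dsimp only at h
  by_contra hne
  refine D.w_smul_ne (sub_ne_zero.mpr hne) (D.w b • x) ?_
  rw [smul_smul, ← D.w_add, sub_add_cancel]
  exact h

/-- Two points on the two orbits of `v`. -/
structure Base where
  x₁ : α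
  x₂ : α
  apart : ∀ z : ZMod p, D.w z • x₁ ≠ x₂

theorem exists_base (hα : Fintype.card α = 2 * p) : Nonempty (Base D) := by
  haveI : Nonempty α := Fintype.card_pos_iff.mp (by
    rw [hα]; have := (Fact.out : p.Prime).pos; omega)
  obtain ⟨x₁⟩ := ‹Nonempty α›
  have hcard : (Finset.univ.image fun z : ZMod p => D.w z • x₁).card < (Finset.univ : Finset α).card := by
    rw [Finset.card_image_of_injective _ (D.w_injective x₁), Finset.card_univ, Finset.card_univ, ZMod.card, hα]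
    have := (Fact.out : p.Prime).pos
    omega
  obtain ⟨x₂, -, hx⟩ := Finset.exists_mem_notMem_of_card_lt_card hcard
  exact ⟨⟨x₁, x₂, fun z h => hx (Finset.mem_image.mpr ⟨z, Finset.mem_univ _, h⟩)⟩⟩

variable {D} (B : Base D)

theorem Base.sum_split (hα : Fintype.card α = 2 * p) (f : α → ℂ) :
    ∑ y, f y = ∑ z : ZMod p, f (D.w z • B.x₁) + ∑ z : ZMod p, f (D.w z • B.x₂) := by
  have hinj : Function.Injective (Sum.elim (fun z : ZMod p => D.w z • B.x₁) fun z => D.w z • B.x₂) := by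
    rintro (a | a) (b | b) h <;> simp only [Sum.elim_inl, Sum.elim_inr] at h
    · exact congrArg Sum.inl (D.w_injective B.x₁ h)
    · refine absurd ?_ (B.apart (-b + a))
      rw [D.w_add, mul_smul, h, smul_smul, ← D.w_add, neg_add_cancel, D.w_zero, one_smul]
    · refine absurd ?_ (B.apart (-a + b))
      rw [D.w_add, mul_smul, ← h, smul_smul, ← D.w_add, neg_add_cancel, D.w_zero, one_smul]
    · exact congrArg Sum.inr (D.w_injective B.x₂ h)
  have hbij : Function.Bijective (Sum.elim (fun z : ZMod p => D.w z • B.x₁) fun z => D.w z • B.x₂) := by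
    rw [Fintype.bijective_iff_injective_and_card]
    refine ⟨hinj, ?_⟩
    rw [Fintype.card_sum, ZMod.card, hα, two_mul]
  rw [← hbij.sum_comp, Fintype.sum_sum_type]
  rfl

theorem inv_pair {M : Matrix α α ℂ} (hM : Inv G M) (x y : α) (a b : ZMod p) :
    M (D.w a • x) (D.w b • y) = M x (D.w (b - a) • y) := by
  rw [show D.w b • y = D.w a • (D.w (b - a) • y) by rw [smul_smul, ← D.w_add, add_sub_cancel]]
  exact hM _ _ _

theorem Base.tr_w (hα : Fintype.card α = 2 * p) {M : Matrix α α ℂ} (hM : Inv G M) (z : ZMod p) :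
    tr M (D.w z) = (p : ℂ) * (M B.x₁ (D.w z • B.x₁) + M B.x₂ (D.w z • B.x₂)) := by
  rw [tr, B.sum_split hα, mul_add]
  have h : ∀ x : α, ∑ a : ZMod p, M (D.w a • x) (D.w z • D.w a • x) = (p : ℂ) * M x (D.w z • x) := by
    intro x
    rw [Finset.sum_congr rfl (g := fun _ => M x (D.w z • x)) fun a _ => by
      rw [smul_smul, ← D.w_add, inv_pair hM, add_sub_cancel_right], Finset.sum_const, Finset.card_univ,
      ZMod.card, nsmul_eq_mul]
  rw [h, h]

variable (D)

/-- The multiplicities. -/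
noncomputable def mult (χ : IrrCharacter G) : ℕ :=
  if χ = Blocks.trivIrr G ∨ χ = D.R ∨ χ ∈ D.L then 1 else 0

theorem mult_perm : (fun g : G => (Nat.card (fixedBy α g) : ℂ)) =
    ∑ χ : IrrCharacter G, (D.mult χ : ℂ) • (χ : G → ℂ) := D.perm

theorem mult_le_one (χ : IrrCharacter G) : D.mult χ ≤ 1 := by
  rw [mult]; split_ifs <;> omega

theorem mult_ne_zero {χ : IrrCharacter G} (h : D.mult χ ≠ 0) :
    χ = Blocks.trivIrr G ∨ χ = D.R ∨ χ ∈ D.L := by
  by_contra hc
  exact h (if_neg hc)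

theorem expand (f : IrrCharacter G → ℂ) (hf : ∀ χ, D.mult χ = 0 → f χ = 0) :
    ∑ χ : IrrCharacter G, f χ = f (Blocks.trivIrr G) + f D.R + ∑ χ ∈ D.L, f χ := by
  rw [← Finset.sum_subset (Finset.subset_univ (insert (Blocks.trivIrr G) (insert D.R D.L)))
    fun χ _ hχ => hf χ (by
      rw [mult, if_neg]
      simpa using hχ),
    Finset.sum_insert (by simp [D.R_ne_triv.symm, D.triv_not_mem]), Finset.sum_insert D.R_not_mem, add_assoc]

theorem tr_expand {M : Matrix α α ℂ} (hM : Inv G M) (g : G) :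
    tr M g = ev M (Blocks.trivIrr G) + ev M D.R * (D.R : G → ℂ) g +
      ∑ χ ∈ D.L, ev M χ * (χ : G → ℂ) g := by
  rw [tr_eq D.mult_perm D.mult_le_one hM g, D.expand _ fun χ hχ => by
    rw [ev_outside D.mult_perm D.mult_le_one hM hχ, zero_mul],
    show ((Blocks.trivIrr G : IrrCharacter G) : G → ℂ) g = 1 from rfl, mul_one]

theorem R_w {z : ZMod p} (hz : z ≠ 0) : (D.R : G → ℂ) (D.w z) = 0 :=
  D.valR _ (Nat.pos_of_ne_zero fun h => hz ((ZMod.val_eq_zero z).mp h)) (ZMod.val_lt z)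

theorem L_w {z : ZMod p} (hz : z ≠ 0) : ∑ χ ∈ D.L, (χ : G → ℂ) (D.w z) = -1 :=
  D.valL _ (Nat.pos_of_ne_zero fun h => hz ((ZMod.val_eq_zero z).mp h)) (ZMod.val_lt z)

theorem exists_eigen_mult (χ : IrrCharacter G) (j : ZMod p) :
    ∃ N : ℕ, ∑ z : ZMod p, (χ : G → ℂ) (D.w z) * echar j z = (p : ℂ) * N := by
  have hvp : D.v ^ p = 1 := by
    have h := pow_orderOf_eq_one D.v
    rwa [D.ordv] at h
  obtain ⟨N, hN⟩ := DihBlock.exists_mult χ hvp (Fact.out : p.Prime).pos (c := zeta p ^ j.val)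
    (by rw [← pow_mul, mul_comm, pow_mul, zeta_spec.pow_eq_one, one_pow])
  refine ⟨N, ?_⟩
  rw [← hN, ← sum_val (fun i => (χ : G → ℂ) (D.v ^ i) * (zeta p ^ j.val) ^ i)]
  refine Finset.sum_congr rfl fun z _ => ?_
  rw [echar, ZMod.val_mul, zeta_pow_mod, pow_mul]
  rfl

/-- The multiplicities of the eigenvalues of `v`. -/
noncomputable def N (χ : IrrCharacter G) (j : ZMod p) : ℕ := (D.exists_eigen_mult χ j).choose

theorem N_spec (χ : IrrCharacter G) (j : ZMod p) :
    ∑ z : ZMod p, (χ : G → ℂ) (D.w z) * echar j z = (p : ℂ) * D.N χ j :=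
  (D.exists_eigen_mult χ j).choose_spec

theorem sum_N (χ : IrrCharacter G) : (∑ j : ZMod p, (D.N χ j : ℂ)) = (χ : G → ℂ) 1 := by
  have h := inversion (fun z => (χ : G → ℂ) (D.w z)) 0
  rw [neg_zero] at h
  simp only [echar_zero_right, one_mul, D.N_spec, D.w_zero, ← Finset.mul_sum] at h
  exact mul_left_cancel₀ (Nat.cast_ne_zero.mpr (Fact.out : p.Prime).ne_zero) h

theorem sum_L_N (j : ZMod p) : ∑ χ ∈ D.L, D.N χ j = if j = 0 then 0 else 1 := by
  have hd : ∑ χ ∈ D.L, (χ : G → ℂ) 1 = (p : ℂ) - 1 := by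
    rw [Finset.sum_congr rfl fun χ _ => (Blocks.irr_degree_eq χ).1]
    have h : ((∑ χ ∈ D.L, (charDegree (χ : G → ℂ) : ℤ) : ℤ) : ℂ) = (((p : ℤ) - 1 : ℤ) : ℂ) := by
      rw [D.degL]
    push_cast at h
    exact h
  have h : (p : ℂ) * ((∑ χ ∈ D.L, D.N χ j : ℕ) : ℂ) = (p : ℂ) * ((if j = 0 then 0 else 1 : ℕ) : ℂ) := by
    push_cast
    rw [Finset.mul_sum, Finset.sum_congr rfl fun χ _ => (D.N_spec χ j).symm, Finset.sum_comm]
    simp only [← Finset.sum_mul]
    rw [← Finset.add_sum_erase _ _ (Finset.mem_univ (0 : ZMod p)), D.w_zero, hd, echar_zero_right, mul_one,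
      Finset.sum_congr rfl fun z hz => by rw [D.L_w (Finset.mem_erase.mp hz).1, neg_one_mul],
      Finset.sum_neg_distrib, Finset.sum_erase_eq_sub (Finset.mem_univ _), echar_zero_right,
      Finset.sum_congr rfl fun z _ => echar_comm j z, sum_echar]
    split_ifs <;> ring
  exact_mod_cast mul_left_cancel₀ (Nat.cast_ne_zero.mpr (Fact.out : p.Prime).ne_zero) h

theorem N_zero {χ : IrrCharacter G} (hχ : χ ∈ D.L) : D.N χ 0 = 0 := by
  have h := D.sum_L_N 0
  rw [if_pos rfl] at h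
  exact (Finset.sum_eq_zero_iff.mp h) χ hχ

theorem sum_value {χ : IrrCharacter G} (hχ : χ ∈ D.L) : ∑ z : ZMod p, (χ : G → ℂ) (D.w z) = 0 := by
  have h := D.N_spec χ 0
  simpa [echar_zero_left, D.N_zero hχ] using h

theorem exists_j {χ : IrrCharacter G} (hχ : χ ∈ D.L) :
    ∃ j : ZMod p, j ≠ 0 ∧ D.N χ j = 1 ∧ ∀ φ ∈ D.L, φ ≠ χ → D.N φ j = 0 := by
  have hne : ∑ j : ZMod p, (D.N χ j : ℂ) ≠ 0 := by
    rw [D.sum_N]; exact Char.irr_degree_ne_zero χ.2
  obtain ⟨j, -, hj⟩ := Finset.exists_ne_zero_of_sum_ne_zero hne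
  have hj' : D.N χ j ≠ 0 := Nat.cast_ne_zero.mp hj
  have hj0 : j ≠ 0 := fun e => hj' (e ▸ D.N_zero hχ)
  have h := D.sum_L_N j
  rw [if_neg hj0, ← Finset.add_sum_erase _ _ hχ] at h
  have h1 : D.N χ j = 1 := by omega
  refine ⟨j, hj0, h1, fun φ hφ hne' => ?_⟩
  exact (Finset.sum_eq_zero_iff.mp (by omega : ∑ φ ∈ D.L.erase χ, D.N φ j = 0)) φ
    (Finset.mem_erase.mpr ⟨hne', hφ⟩)

theorem value_eq (χ : IrrCharacter G) (z : ZMod p) :
    (χ : G → ℂ) (D.w z) = ∑ j : ZMod p, (D.N χ j : ℂ) * echar j (-z) := by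
  have h := inversion (fun z => (χ : G → ℂ) (D.w z)) z
  simp only [D.N_spec] at h
  refine mul_left_cancel₀ (Nat.cast_ne_zero.mpr (Fact.out : p.Prime).ne_zero : (p : ℂ) ≠ 0) ?_
  rw [← h, Finset.mul_sum]
  exact Finset.sum_congr rfl fun j _ => by ring

theorem orth {χ φ : IrrCharacter G} (hχ : χ ∈ D.L) (hφ : φ ∈ D.L) :
    ∑ z : ZMod p, (χ : G → ℂ) (D.w z) * conj ((φ : G → ℂ) (D.w z)) =
      if χ = φ then (p : ℂ) * (χ : G → ℂ) 1 else 0 := by
  have h1 : ∀ z : ZMod p, conj ((φ : G → ℂ) (D.w z)) = ∑ j : ZMod p, (D.N φ j : ℂ) * echar j z := fun z => by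
    rw [D.value_eq φ z, map_sum]
    exact Finset.sum_congr rfl fun j _ => by
      rw [map_mul, Complex.conj_natCast, echar_neg, Complex.conj_conj]
  simp only [h1, Finset.mul_sum]
  rw [Finset.sum_comm, Finset.sum_congr rfl (g := fun j => (D.N φ j : ℂ) * ((p : ℂ) * D.N χ j)) fun j _ => by
    rw [← D.N_spec χ j, Finset.mul_sum]
    exact Finset.sum_congr rfl fun z _ => by ring]
  split_ifs with h
  · subst h
    rw [← D.sum_N χ, Finset.mul_sum]
    refine Finset.sum_congr rfl fun j _ => ?_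
    rcases eq_or_ne j 0 with rfl | hj
    · rw [D.N_zero hχ]; simp
    have hh := D.sum_L_N j
    rw [if_neg hj, ← Finset.add_sum_erase _ _ hχ] at hh
    rcases Nat.le_one_iff_eq_zero_or_eq_one.mp (show D.N χ j ≤ 1 by omega) with e | e <;> simp [e]
  · refine Finset.sum_eq_zero fun j _ => ?_
    rcases eq_or_ne (D.N χ j) 0 with e | e
    · simp [e]
    have hj : j ≠ 0 := fun e0 => e (e0 ▸ D.N_zero hχ)
    have hh := D.sum_L_N j
    rw [if_neg hj, ← Finset.add_sum_erase _ _ hχ] at hh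
    rw [(Finset.sum_eq_zero_iff.mp (by omega : ∑ φ ∈ D.L.erase χ, D.N φ j = 0)) φ
      (Finset.mem_erase.mpr ⟨Ne.symm h, hφ⟩), Nat.cast_zero, zero_mul]

/-- The transform of an invariant matrix with zero diagonal. -/
noncomputable def F (M : Matrix α α ℂ) (z : ZMod p) : ℂ :=
  ev M (Blocks.trivIrr G) + ∑ χ ∈ D.L, ev M χ * (χ : G → ℂ) (D.w z)

theorem sum_F_mul (M M' : Matrix α α ℂ) :
    ∑ z : ZMod p, conj (D.F M z) * D.F M' z =
      (p : ℂ) * (conj (ev M (Blocks.trivIrr G)) * ev M' (Blocks.trivIrr G)) +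
        (p : ℂ) * ∑ χ ∈ D.L, conj (ev M χ) * ev M' χ * (χ : G → ℂ) 1 := by
  set k := ev M (Blocks.trivIrr G)
  set k' := ev M' (Blocks.trivIrr G)
  have h1 : ∀ z : ZMod p, conj (D.F M z) * D.F M' z = conj k * k' +
      conj k * (∑ χ ∈ D.L, ev M' χ * (χ : G → ℂ) (D.w z)) +
      (∑ χ ∈ D.L, conj (ev M χ) * conj ((χ : G → ℂ) (D.w z))) * k' +
      ∑ χ ∈ D.L, ∑ φ ∈ D.L, (conj (ev M χ) * ev M' φ) *
        ((φ : G → ℂ) (D.w z) * conj ((χ : G → ℂ) (D.w z))) := fun z => by
    rw [F, F, map_add, map_sum, add_mul, mul_add, mul_add, Finset.sum_mul_sum]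
    simp only [map_mul]
    rw [add_assoc (_ + _)]
    congr 2
    exact Finset.sum_congr rfl fun χ _ => Finset.sum_congr rfl fun φ _ => by ring
  simp only [h1, Finset.sum_add_distrib]
  rw [Finset.sum_const, Finset.card_univ, ZMod.card, nsmul_eq_mul,
    show ∑ z : ZMod p, conj k * ∑ χ ∈ D.L, ev M' χ * (χ : G → ℂ) (D.w z) = 0 by
      rw [← Finset.mul_sum, Finset.sum_comm, Finset.sum_eq_zero, mul_zero]
      intro χ hχ
      rw [← Finset.mul_sum, D.sum_value hχ, mul_zero],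
    show ∑ z : ZMod p, (∑ χ ∈ D.L, conj (ev M χ) * conj ((χ : G → ℂ) (D.w z))) * k' = 0 by
      rw [← Finset.sum_mul, Finset.sum_comm, Finset.sum_eq_zero, zero_mul]
      intro χ hχ
      rw [← Finset.mul_sum, ← map_sum, D.sum_value hχ, map_zero, mul_zero],
    Finset.sum_comm, Finset.mul_sum, add_zero, add_zero]
  congr 1
  refine Finset.sum_congr rfl fun χ hχ => ?_
  rw [Finset.sum_comm, Finset.sum_eq_single χ]
  · rw [← Finset.mul_sum, D.orth hχ hχ, if_pos rfl]; ring
  · intro φ hφ hne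
    rw [← Finset.mul_sum, D.orth hφ hχ, if_neg hne, mul_zero]
  · exact fun h => absurd hχ h

/-- The number of orbit points meeting the orbital at the shift `z`. -/
noncomputable def cnt {D : Decomp (p := p) G} (B : Base D) (a b : α) (z : ZMod p) : ℕ :=
  (if ∃ g : G, g • a = B.x₁ ∧ g • b = D.w z • B.x₁ then 1 else 0) +
    (if ∃ g : G, g • a = B.x₂ ∧ g • b = D.w z • B.x₂ then 1 else 0)

variable {D}

theorem cnt_cast (a b : α) (z : ZMod p) : (cnt B a b z : ℂ) =
    orbMatrix G a b B.x₁ (D.w z • B.x₁) + orbMatrix G a b B.x₂ (D.w z • B.x₂) := by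
  rw [cnt, Nat.cast_add]
  congr 1 <;> (simp only [orbMatrix]; split_ifs <;> simp)

theorem cnt_zero {a b : α} (hab : b ≠ a) : cnt B a b 0 = 0 := by
  have h : ∀ x : α, ¬ ∃ g : G, g • a = x ∧ g • b = D.w 0 • x := by
    rintro x ⟨g, h1, h2⟩
    rw [D.w_zero, one_smul, ← h1] at h2
    exact hab (smul_left_cancel g h2)
  rw [cnt, if_neg (h _), if_neg (h _)]

variable (hα : Fintype.card α = 2 * p) [IsPretransitive G α]
include hα

theorem ev_orb_triv (a b : α) :
    ev (orbMatrix G a b) (Blocks.trivIrr G) = (Nat.card (orbit (stabilizer G a) b) : ℂ) := by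
  rw [ev_triv (inv_orbMatrix a b) a]
  simp only [orbMatrix_row, Finset.sum_boole]
  rw [Nat.card_eq_fintype_card, ← Set.toFinset_card]
  congr 2
  ext y
  simp

theorem tr_orb_shift {a b : α} (hab : b ≠ a) (z : ZMod p) :
    (p : ℂ) * cnt B a b z + (if z = 0 then -(p : ℂ) * ev (orbMatrix G a b) D.R else 0) =
      D.F (orbMatrix G a b) z := by
  have hi := inv_orbMatrix (G := G) a b
  rw [cnt_cast, ← B.tr_w hα hi, D.tr_expand hi, F]
  rcases eq_or_ne z 0 with rfl | hz
  · rw [if_pos rfl, D.w_zero, (Blocks.irr_degree_eq D.R).1, D.degR]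
    ring
  · rw [if_neg hz, D.R_w hz, mul_zero]
    ring

theorem ev_R_eq {a b : α} (hab : b ≠ a) :
    ev (orbMatrix G a b) D.R =
      (∑ z : ZMod p, (cnt B a b z : ℂ)) - (Nat.card (orbit (stabilizer G a) b) : ℂ) := by
  have h : ∑ z : ZMod p, ((p : ℂ) * cnt B a b z +
      (if z = 0 then -(p : ℂ) * ev (orbMatrix G a b) D.R else 0)) =
      ∑ z : ZMod p, (ev (orbMatrix G a b) (Blocks.trivIrr G) +
        ∑ χ ∈ D.L, ev (orbMatrix G a b) χ * (χ : G → ℂ) (D.w z)) :=
    Finset.sum_congr rfl fun z _ => tr_orb_shift B hα hab z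
  simp only [Finset.sum_add_distrib, Finset.sum_const, Finset.card_univ, ZMod.card, nsmul_eq_mul,
    Finset.sum_ite_eq', Finset.mem_univ, if_true, ← Finset.mul_sum] at h
  rw [show ∑ z : ZMod p, ∑ χ ∈ D.L, ev (orbMatrix G a b) χ * (χ : G → ℂ) (D.w z) = 0 by
    rw [Finset.sum_comm]
    refine Finset.sum_eq_zero fun χ hχ => ?_
    rw [← Finset.mul_sum, D.sum_value hχ, mul_zero], add_zero, ev_orb_triv hα] at h
  refine mul_left_cancel₀ (Nat.cast_ne_zero.mpr (Fact.out : p.Prime).ne_zero : (p : ℂ) ≠ 0) ?_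
  linear_combination -h

theorem trace_product (a b b' : α) :
    tr ((orbMatrix G a b)ᴴ * orbMatrix G a b') (1 : G) = if b' ∈ orbit (stabilizer G a) b then
      (2 * (p : ℂ)) * Nat.card (orbit (stabilizer G a) b) else 0 := by
  have hsame : ∀ x y : α, orbMatrix G a b x y * orbMatrix G a b' x y =
      if b' ∈ orbit (stabilizer G a) b then orbMatrix G a b x y else 0 := by
    intro x y
    have hiff : (∃ g : G, g • a = x ∧ g • b = y) →
        ((∃ g : G, g • a = x ∧ g • b' = y) ↔ b' ∈ orbit (stabilizer G a) b) := by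
      rintro ⟨g, g1, g2⟩
      constructor
      · rintro ⟨g', g1', g2'⟩
        refine ⟨⟨g'⁻¹ * g, ?_⟩, ?_⟩
        · rw [mem_stabilizer_iff, mul_smul, g1, ← g1', inv_smul_smul]
        · show (g'⁻¹ * g) • b = b'
          rw [mul_smul, g2, ← g2', inv_smul_smul]
      · rintro ⟨⟨s, hs⟩, hsb⟩
        refine ⟨g * s⁻¹, ?_, ?_⟩
        · rw [mul_smul, inv_smul_eq_iff.mpr (mem_stabilizer_iff.mp hs).symm, g1]
        · rw [mul_smul, ← hsb]
          show g • s⁻¹ • (s • b) = y
          rw [inv_smul_smul, g2]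
    simp only [orbMatrix]
    by_cases h1 : ∃ g : G, g • a = x ∧ g • b = y
    · by_cases h3 : b' ∈ orbit (stabilizer G a) b
      · rw [if_pos h1, if_pos ((hiff h1).mpr h3), if_pos h3, one_mul]
      · rw [if_pos h1, if_neg (fun e => h3 ((hiff h1).mp e)), if_neg h3, mul_zero]
    · rw [if_neg h1, zero_mul]
      split_ifs <;> rfl
  have h : tr ((orbMatrix G a b)ᴴ * orbMatrix G a b') (1 : G) =
      ∑ y, ∑ x, orbMatrix G a b x y * orbMatrix G a b' x y := by
    rw [tr]
    refine Finset.sum_congr rfl fun y _ => ?_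
    rw [one_smul, Matrix.mul_apply]
    refine Finset.sum_congr rfl fun x _ => ?_
    rw [Matrix.conjTranspose_apply, RCLike.star_def]
    congr 1
    simp only [orbMatrix]
    split_ifs <;> simp
  rw [h, Finset.sum_comm]
  simp only [hsame]
  split_ifs
  · rw [Finset.sum_congr rfl fun x _ => row_sum (inv_orbMatrix a b) a x, Finset.sum_const,
      ← ev_triv (inv_orbMatrix a b) a, ev_orb_triv hα, Finset.card_univ, hα, nsmul_eq_mul]
    push_cast
    ring
  · simp

/-- The fundamental identity. -/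
theorem identity {a b b' : α} (hab : b ≠ a) (hab' : b' ≠ a) :
    (∑ z : ZMod p, (cnt B a b z : ℤ) * cnt B a b' z) =
      2 * (if b' ∈ orbit (stabilizer G a) b then (Nat.card (orbit (stabilizer G a) b) : ℤ) else 0) -
        2 * ((∑ z : ZMod p, (cnt B a b z : ℤ)) - Nat.card (orbit (stabilizer G a) b)) *
          ((∑ z : ZMod p, (cnt B a b' z : ℤ)) - Nat.card (orbit (stabilizer G a) b')) := by
  have hp : (p : ℂ) ≠ 0 := Nat.cast_ne_zero.mpr (Fact.out : p.Prime).ne_zero
  set r : ℤ := (∑ z : ZMod p, (cnt B a b z : ℤ)) - Nat.card (orbit (stabilizer G a) b) with hr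
  set r' : ℤ := (∑ z : ZMod p, (cnt B a b' z : ℤ)) - Nat.card (orbit (stabilizer G a) b') with hr'
  have er : ev (orbMatrix G a b) D.R = (r : ℂ) := by rw [ev_R_eq B hα hab, hr]; push_cast; ring
  have er' : ev (orbMatrix G a b') D.R = (r' : ℂ) := by rw [ev_R_eq B hα hab', hr']; push_cast; ring
  have hleft : ∑ z : ZMod p, conj (D.F (orbMatrix G a b) z) * D.F (orbMatrix G a b') z =
      (p : ℂ) * p * ((∑ z : ZMod p, (cnt B a b z : ℂ) * cnt B a b' z) + (r : ℂ) * r') := by
    rw [Finset.sum_congr rfl (g := fun z => (p : ℂ) * p * ((cnt B a b z : ℂ) * cnt B a b' z) +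
      if z = 0 then (p : ℂ) * p * ((r : ℂ) * r') else 0) fun z _ => ?_, Finset.sum_add_distrib,
      Finset.sum_ite_eq', if_pos (Finset.mem_univ _), ← Finset.mul_sum, mul_add]
    rw [← tr_orb_shift B hα hab, ← tr_orb_shift B hα hab', er, er']
    rcases eq_or_ne z 0 with rfl | hz
    · rw [if_pos rfl, if_pos rfl, if_pos rfl, cnt_zero B hab, cnt_zero B hab']
      simp
      ring
    · rw [if_neg hz, if_neg hz, if_neg hz]
      simp
      ring
  have hright := tr_mul D.mult_perm D.mult_le_one (inv_orbMatrix (G := G) a b).conjTranspose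
    (inv_orbMatrix (G := G) a b') (1 : G)
  rw [trace_product hα] at hright
  simp only [ev_conjTranspose (inv_orbMatrix (G := G) a b)] at hright
  rw [D.expand _ fun χ hχ => by
      rw [ev_outside D.mult_perm D.mult_le_one (inv_orbMatrix a b') hχ, mul_zero, zero_mul],
    show ((Blocks.trivIrr G : IrrCharacter G) : G → ℂ) 1 = 1 from rfl, mul_one,
    (Blocks.irr_degree_eq D.R).1, D.degR, er, er'] at hright
  rw [D.sum_F_mul] at hleft
  simp only [map_intCast] at hright
  apply Int.cast_injective (α := ℂ)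
  push_cast
  refine mul_left_cancel₀ (mul_ne_zero hp hp) ?_
  split_ifs with h <;> simp only [h, if_true, if_false] at hright
  · push_cast
    linear_combination -hleft - (p : ℂ) * hright
  · push_cast
    linear_combination -hleft - (p : ℂ) * hright

end Decomp

end CfsgLib.DegreeTwoPrime
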